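import Cfsg.Agent.Partition.Tools
import Cfsg.Agent.SolvLinK.CenterCount

/-!
# Groups with a nontrivial partition: an abelian normal subgroup outside all components

Such a group is a Frobenius group or the symmetric group of degree four.
-/

set_option autoImplicit false
set_option linter.unusedSectionVars false
set_option linter.style.haveILetI false

namespace CfsgLib.Partition

open Subgroup
open scoped IsMulCommutative

universe u

variable {G : Type u} [Group G] [Finite G]

theorem card_le_two_center {N : Subgroup G} [hN : N.Normal] (hc : Nat.card N = 2) :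
    N ≤ center G := by
  classical
  intro a ha
  by_cases ha1 : a = 1
  · exact ha1 ▸ one_mem _
  refine mem_center_iff.2 fun g => ?_
  by_cases he : g * a * g⁻¹ = a
  · exact mul_inv_eq_iff_eq_mul.1 he
  exfalso
  haveI := Fintype.ofFinite N
  have h3 : ({⟨1, one_mem N⟩, ⟨a, ha⟩, ⟨g * a * g⁻¹, hN.conj_mem a ha g⟩} : Finset N).card ≤ 2 := by
    rw [← hc, Nat.card_eq_fintype_card]; exact Finset.card_le_univ _
  have h1 : g * a * g⁻¹ ≠ 1 := fun e => ha1 (conj_eq_one_iff.1 e)
  rw [Finset.card_insert_of_notMem (by simp [Ne.symm ha1, Ne.symm h1]),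
    Finset.card_insert_of_notMem (by simp [Ne.symm he]), Finset.card_singleton] at h3
  omega

namespace Part

variable (P : Part G) (hnil : P.Nilp) (hZ : center G = ⊥) {p : ℕ} [hp : Fact p.Prime]
  {N : Subgroup G} [hN : N.Normal] (hcomm : IsMulCommutative N) (hexp : ∀ x ∈ N, x ^ p = 1)
  (hN1 : N ≠ ⊥) (hNX : ∀ g : G, g ≠ 1 → ¬ N ≤ P.comp g)

include hnil hexp hNX

theorem pow_eq_one_of_centralizer {x : G} (hx : x ∈ centralizer (N : Set G)) : x ^ p = 1 := by
  by_cases hx1 : x = 1
  · rw [hx1, one_pow]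
  obtain ⟨a, ha, hax⟩ := SetLike.not_le_iff_exists.1 (hNX x hx1)
  have ha1 : a ≠ 1 := fun e => hax (e ▸ one_mem _)
  have h := (P.prime_of_commute hx1 ha1 (mem_centralizer_iff.1 hx a ha).symm hax).2
  rw [orderOf_eq_prime (hexp a ha) ha1] at h
  rw [h]
  exact pow_orderOf_eq_one x

theorem commute_of_coprime_mem {g a b : G} (hg : g ≠ 1) (ha : a ∈ P.comp g) (hb : b ∈ P.comp g)
    (hab : (orderOf a).Coprime (orderOf b)) : Commute a b := by
  haveI := hnil g hg
  exact congrArg Subtype.val (CfsgLib.FGSA.commute_of_coprime_orderOf (⟨a, ha⟩ : P.comp g) ⟨b, hb⟩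
    (by rwa [Subgroup.orderOf_mk, Subgroup.orderOf_mk]))

include hcomm

/-- Elements of order prime to `p` act fixed point freely on `N`. -/
theorem not_commute_mem {w n : G} (hw : w ≠ 1) (hco : (orderOf w).Coprime p) (hn : n ∈ N)
    (hn1 : n ≠ 1) : ¬ Commute w n := by
  intro hc
  have hno : orderOf n = p := orderOf_eq_prime (hexp n hn) hn1
  have hnY : n ∈ P.comp w := P.mem_of_commute hw hn1 hc fun e => hp.out.ne_one (by
    rw [← e, hno] at hco; exact (Nat.coprime_self p).1 hco)
  have hwN : w ∈ centralizer (N : Set G) := mem_centralizer_iff.2 fun m hm => by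
    have hmn : Commute m n := congrArg Subtype.val (mul_comm (⟨m, hm⟩ : N) ⟨n, hn⟩)
    have hmY := P.normalizer_of_commute hw hnY hn1 hmn
    set c := m * w * m⁻¹ * w⁻¹ with hc'
    have hcY : c ∈ P.comp w :=
      mul_mem ((Subgroup.mem_normalizer_iff.1 hmY w).1 (P.mem w hw)) (inv_mem (P.mem w hw))
    have hcN : c ∈ N := by
      rw [hc', mul_assoc m w, mul_assoc m (w * m⁻¹)]
      exact mul_mem hm (hN.conj_mem _ (inv_mem hm) w)
    have hcw : Commute c w := P.commute_of_coprime_mem hnil hexp hNX hw hcY (P.mem w hw)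
      (Nat.Coprime.coprime_dvd_left (orderOf_dvd_of_pow_eq_one (hexp c hcN)) hco.symm)
    have h1 : c ^ orderOf w = 1 := by
      have e : (c * w) ^ orderOf w = 1 := by
        rw [hc', inv_mul_cancel_right, conj_pow, pow_orderOf_eq_one]; simp
      rwa [hcw.mul_pow, pow_orderOf_eq_one, mul_one] at e
    have h2 : c = 1 := orderOf_eq_one_iff.1
      (Nat.eq_one_of_dvd_coprimes hco (orderOf_dvd_of_pow_eq_one h1) (orderOf_dvd_of_pow_eq_one (hexp c hcN)))
    rw [hc', mul_inv_eq_one, mul_inv_eq_iff_eq_mul] at h2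
    exact h2
  exact hw (orderOf_eq_one_iff.1 (Nat.eq_one_of_dvd_coprimes hco dvd_rfl
    (orderOf_dvd_of_pow_eq_one (P.pow_eq_one_of_centralizer hnil hexp hNX hwN))))

include hN1

theorem exists_commute_mem_normal {x : G} (hx : ∃ k, x ^ p ^ k = 1) :
    ∃ a ∈ N, a ≠ 1 ∧ Commute x a := by
  obtain ⟨k, hk⟩ := hx
  have hpf : IsPGroup p (zpowers x) := by
    obtain ⟨i, -, hi⟩ := (Nat.dvd_prime_pow hp.out).1 (orderOf_dvd_of_pow_eq_one hk)
    exact IsPGroup.of_card (n := i) (by rw [Nat.card_zpowers, hi])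
  letI : MulAction (zpowers x) N :=
    MulAction.compHom N ((MulAut.conjNormal (H := N)).comp (zpowers x).subtype)
  have hNp : IsPGroup p N := fun a => ⟨1, Subtype.ext (by
    rw [pow_one, SubgroupClass.coe_pow]; exact hexp a a.2)⟩
  have hdvd : p ∣ Nat.card N := hNp.card_eq_or_dvd.resolve_left fun e => hN1 (card_eq_one.1 e)
  obtain ⟨a, ha, hne⟩ := hpf.exists_fixed_point_of_prime_dvd_card_of_fixed_point N hdvd
    (a := 1) (fun b => map_one (MulAut.conjNormal (H := N) (b : G)))
  refine ⟨a, a.2, fun e => hne (Subtype.ext e.symm), ?_⟩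
  have h1 := congrArg Subtype.val (ha ⟨x, mem_zpowers x⟩)
  change ((MulAut.conjNormal x a : N) : G) = (a : G) at h1
  rw [MulAut.conjNormal_apply] at h1
  exact mul_inv_eq_iff_eq_mul.1 h1

/-- No element of order prime to `p` commutes with a `p`-element. -/
theorem not_commute_pElement {w x : G} (hw : w ≠ 1) (hco : (orderOf w).Coprime p) (hx1 : x ≠ 1)
    (hx : ∃ k, x ^ p ^ k = 1) : ¬ Commute w x := by
  intro hc
  have hxY : x ∈ P.comp w := P.mem_of_commute hw hx1 hc fun e => by
    obtain ⟨k, hk⟩ := hx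
    have h1 : orderOf w ∣ p ^ k := e ▸ orderOf_dvd_of_pow_eq_one hk
    exact hw (orderOf_eq_one_iff.1 (Nat.eq_one_of_dvd_coprimes (hco.pow_right k) dvd_rfl h1))
  obtain ⟨a, ha, ha1, hax⟩ := P.exists_commute_mem_normal hnil hcomm hexp hN1 hNX hx
  have haN := P.normalizer_of_commute hw hxY hx1 hax.symm
  refine P.not_commute_mem hnil hcomm hexp hNX hw hco ha ha1 ?_
  set c := a * w * a⁻¹ * w⁻¹ with hc'
  have hcY : c ∈ P.comp w :=
    mul_mem ((Subgroup.mem_normalizer_iff.1 haN w).1 (P.mem w hw)) (inv_mem (P.mem w hw))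
  have hcN : c ∈ N := by
    rw [hc', mul_assoc a w, mul_assoc a (w * a⁻¹)]
    exact mul_mem ha (hN.conj_mem _ (inv_mem ha) w)
  have h2 : c = 1 := by
    by_contra hc1
    exact P.not_commute_mem hnil hcomm hexp hNX hw hco hcN hc1
      (P.commute_of_coprime_mem hnil hexp hNX hw (P.mem w hw) hcY
        (hco.coprime_dvd_right (orderOf_dvd_of_pow_eq_one (hexp c hcN))))
  rw [hc', mul_inv_eq_one, mul_inv_eq_iff_eq_mul] at h2
  exact h2.symm

include hZ

/-- A normal Sylow subgroup gives a Frobenius group. -/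
theorem frobenius_of_not_dvd_index (h : ¬ p ∣ (Cfsg.pCore p G).index) :
    ∃ H : Subgroup G, Cfsg.IsFrobeniusComplement H := by
  haveI := (CfsgLib.Solvable.pCore_spec (G := G) p).1
  have hRp := CfsgLib.Solvable.isPGroup_pCore (G := G) p
  have hNp : IsPGroup p N := fun a => ⟨1, Subtype.ext (by
    rw [pow_one, SubgroupClass.coe_pow]; exact hexp a a.2)⟩
  refine exists_frobenius_complement (Cfsg.pCore p G)
    (fun e => hN1 (eq_bot_iff.2 (e ▸ CfsgLib.Solvable.le_pCore p hN hNp))) (fun e => ?_) ?_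
  · haveI : Nontrivial G := by
      obtain ⟨a, -, ha1⟩ := (bot_or_exists_ne_one _).resolve_left hN1
      exact ⟨⟨a, 1, ha1⟩⟩
    have hG : IsPGroup p G := fun x => by
      obtain ⟨k, hk⟩ := hRp ⟨x, e ▸ mem_top x⟩
      exact ⟨k, congrArg Subtype.val hk⟩
    haveI := hG.center_nontrivial
    exact (nontrivial_iff_ne_bot (center G)).1 inferInstance hZ
  intro y hy hy1 g hc
  by_contra hg
  obtain ⟨k, m, hm, hkm⟩ := Nat.exists_eq_pow_mul_and_not_dvd (orderOf_pos g).ne' p hp.out.ne_one
  have hwo : orderOf (g ^ p ^ k) = m := by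
    rw [orderOf_pow' _ (pow_ne_zero _ hp.out.ne_zero), hkm, Nat.gcd_mul_right_left,
      Nat.mul_div_cancel_left _ (pow_pos hp.out.pos _)]
  have hw1 : g ^ p ^ k ≠ 1 := fun e => hg (by
    rw [← QuotientGroup.eq_one_iff, ← orderOf_eq_one_iff]
    refine Nat.eq_one_of_dvd_coprimes ((hp.out.coprime_iff_not_dvd.2 h).pow_left k) ?_ (orderOf_dvd_natCard _)
    exact (orderOf_map_dvd (QuotientGroup.mk' (Cfsg.pCore p G)) g).trans (orderOf_dvd_of_pow_eq_one e))
  obtain ⟨j, hj⟩ := hRp ⟨y, hy⟩
  exact P.not_commute_pElement hnil hcomm hexp hN1 hNX hw1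
    (hwo.symm ▸ (hp.out.coprime_iff_not_dvd.2 hm).symm) hy1 ⟨j, congrArg Subtype.val hj⟩
    (hc.symm.pow_left _)

/-- For odd `p` and even order there is a normal Sylow subgroup. -/
theorem not_dvd_index_of_even (hp2 : p ≠ 2) (he : 2 ∣ Nat.card G) :
    ¬ p ∣ (Cfsg.pCore p G).index := by
  haveI : Fact (Nat.Prime 2) := ⟨Nat.prime_two⟩
  obtain ⟨t, ht⟩ := exists_prime_orderOf_dvd_card' (G := G) 2 he
  have ht1 : t ≠ 1 := CfsgLib.Invol.ne_one ht
  have hco : (orderOf t).Coprime p := by
    rw [ht]; exact (Nat.coprime_primes Nat.prime_two hp.out).2 hp2.symm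
  have hinv : ∀ a : N, MulAut.conjNormal t a = a⁻¹ := fun a =>
    CfsgLib.Frobenius.fpf_inv (MulAut.conjNormal t) (fun a ha => by
      by_contra ha1
      refine P.not_commute_mem hnil hcomm hexp hNX ht1 hco a.2 (fun e => ha1 (Subtype.ext e)) ?_
      have h1 := congrArg Subtype.val ha
      rw [MulAut.conjNormal_apply] at h1
      exact mul_inv_eq_iff_eq_mul.1 h1)
      (by rw [← map_mul, CfsgLib.Invol.mul_self_eq_one ht, map_one]) a
  set K := (MulAut.conjNormal (H := N) : G →* MulAut N).ker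
  have hKc : K ≤ centralizer (N : Set G) := fun x hx => mem_centralizer_iff.2 fun a ha => by
    have h1 := congrArg Subtype.val (DFunLike.congr_fun (MonoidHom.mem_ker.1 hx) (⟨a, ha⟩ : N))
    rw [MulAut.conjNormal_apply] at h1
    exact (mul_inv_eq_iff_eq_mul.1 h1).symm
  have hKp : IsPGroup p K := fun x => ⟨1, Subtype.ext (by
    rw [pow_one, SubgroupClass.coe_pow]; exact P.pow_eq_one_of_centralizer hnil hexp hNX (hKc x.2))⟩
  obtain ⟨S⟩ := (inferInstance : Nonempty (Sylow p G))
  have hSK : (S : Subgroup G) ≤ K := by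
    intro g hg
    obtain ⟨k, hk⟩ := S.2 ⟨g, hg⟩
    have hgk : g ^ p ^ k = 1 := congrArg Subtype.val hk
    have hcomm' : t * g * t⁻¹ * g⁻¹ ∈ K := by
      rw [MonoidHom.mem_ker, map_mul, map_mul, map_mul, map_inv, map_inv, mul_inv_eq_one,
        mul_inv_eq_iff_eq_mul]
      refine MulEquiv.ext fun z => ?_
      rw [MulAut.mul_apply, MulAut.mul_apply, hinv, hinv, map_inv]
    set T := K ⊔ zpowers g
    have hTp : IsPGroup p T := IsPGroup.to_sup_of_normal_left hKp
      (S.2.to_le (zpowers_le.2 hg))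
    have hTi : ∀ x ∈ T, t * x * t⁻¹ ∈ T := by
      have hle : T ≤ T.comap (MulAut.conj t).toMonoidHom := by
        refine sup_le (fun x hx => mem_comap.2 (mem_sup_left ?_)) (zpowers_le.2 (mem_comap.2 ?_))
        · exact (MonoidHom.normal_ker _).conj_mem x hx t
        · have h2 := mul_mem (mem_sup_left (T := zpowers g) hcomm') (mem_sup_right (S := K) (mem_zpowers g))
          rw [inv_mul_cancel_right] at h2
          exact h2
      exact fun x hx => mem_comap.1 (hle hx)
    have hinvol : ∀ x : G, t * (t * x * t⁻¹) * t⁻¹ = x := fun x => by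
      rw [show t * (t * x * t⁻¹) * t⁻¹ = (t * t) * x * (t * t)⁻¹ by group,
        CfsgLib.Invol.mul_self_eq_one ht, one_mul, inv_one, mul_one]
    let σ : MulAut T :=
      { toFun := fun x => ⟨t * x * t⁻¹, hTi x x.2⟩
        invFun := fun x => ⟨t * x * t⁻¹, hTi x x.2⟩
        left_inv := fun x => Subtype.ext (hinvol x)
        right_inv := fun x => Subtype.ext (hinvol x)
        map_mul' := fun x y => Subtype.ext (by simp [mul_assoc]) }
    have hσ := CfsgLib.Frobenius.fpf_inv σ (fun x hx => by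
      by_contra hx1
      obtain ⟨j, hj⟩ := hTp x
      exact P.not_commute_pElement hnil hcomm hexp hN1 hNX ht1 hco (fun e => hx1 (Subtype.ext e))
        ⟨j, congrArg Subtype.val hj⟩ (mul_inv_eq_iff_eq_mul.1 (congrArg Subtype.val hx)))
      (MulEquiv.ext fun x => Subtype.ext (hinvol x)) ⟨g, mem_sup_right (mem_zpowers g)⟩
    have hσ' : t * g * t⁻¹ = g⁻¹ := congrArg Subtype.val hσ
    rw [hσ'] at hcomm'
    obtain ⟨m, hm⟩ : Odd (p ^ k) := (hp.out.odd_of_ne_two hp2).pow
    have h2 : g = (g⁻¹ * g⁻¹) ^ (-((m : ℤ) + 1)) := by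
      rw [← pow_two, ← zpow_natCast, inv_zpow, ← zpow_neg, ← zpow_mul,
        show (-(2 : ℕ) : ℤ) * -((m : ℤ) + 1) = ((p ^ k : ℕ) : ℤ) + 1 by rw [hm]; push_cast; ring,
        zpow_add_one, zpow_natCast, hgk, one_mul]
    rw [h2]
    exact zpow_mem hcomm' _
  intro hd
  exact S.not_dvd_index (hd.trans (index_dvd_of_le
    (hSK.trans (CfsgLib.Solvable.le_pCore p inferInstance hKp))))

/-- An element of order `p` normalising a nontrivial subgroup of order prime to `p` forces
`p = 2` and `|N| = 4`, and acts nontrivially on `N`. -/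
theorem card_eq_four {W : Subgroup G} {v : G} (hW : (Nat.card W).Coprime p) (hW1 : W ≠ ⊥)
    (hv : orderOf v = p) (hvW : v ∈ normalizer (W : Set G)) :
    p = 2 ∧ Nat.card N = 4 ∧ v ∉ centralizer (N : Set G) := by
  classical
  set φ : G →* MulAut N := MulAut.conjNormal with hφd
  have hφ : ∀ (a : G) (z : N), ((φ a z : N) : G) = a * z * a⁻¹ := fun a z => MulAut.conjNormal_apply a z
  have hcoW : ∀ w ∈ W, (orderOf w).Coprime p := fun w hw =>
    hW.coprime_dvd_left (Subgroup.orderOf_dvd_natCard W hw)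
  have hv1 : v ≠ 1 := fun e => by rw [e, orderOf_one] at hv; exact hp.out.ne_one hv.symm
  set ν : N →* N := ∏ i ∈ Finset.range p, (φ (v ^ i)).toMonoidHom with hν
  have hνa : ∀ z : N, ν z = ∏ i ∈ Finset.range p, φ (v ^ i) z := fun z => by
    rw [hν, MonoidHom.finset_prod_apply]; rfl
  have hνv : ∀ z : N, ((ν z : N) : G) = ((z : G) * v) ^ p := by
    intro z
    have hind : ∀ n : ℕ, ((∏ i ∈ Finset.range n, φ (v ^ i) z : N) : G) * v ^ n = ((z : G) * v) ^ n := by
      intro n
      induction n with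
      | zero => simp
      | succ n ih =>
        rw [Finset.prod_range_succ, Subgroup.coe_mul, hφ, pow_succ, pow_succ ((z : G) * v), ← ih]
        group
    have hvp : v ^ p = 1 := hv ▸ pow_orderOf_eq_one v
    rw [hνa, ← hind p, hvp, mul_one]
  obtain ⟨z₁, hz₁⟩ : ∃ z, ν z ≠ 1 := by
    by_contra hall
    push Not at hall
    obtain ⟨a, ha, ha1⟩ := (bot_or_exists_ne_one _).resolve_left hN1
    have h := pow_card_eq_one_of_norm φ W hp.out.pos hvW (fun z hz => by
        by_contra hz1
        obtain ⟨w, hw, hw1⟩ := (bot_or_exists_ne_one _).resolve_left hW1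
        refine P.not_commute_mem hnil hcomm hexp hNX hw1 (hcoW w hw) z.2 (fun e => hz1 (Subtype.ext e)) ?_
        have h1 := congrArg Subtype.val (hz w hw)
        rw [hφ] at h1
        exact mul_inv_eq_iff_eq_mul.1 h1)
      (fun w hw i hi hip hc => by
        by_contra hw1
        refine P.not_commute_pElement hnil hcomm hexp hN1 hNX hw1 (hcoW w hw) (fun e => ?_)
          ⟨1, by rw [pow_one, ← pow_mul, mul_comm, pow_mul, ← hv, pow_orderOf_eq_one, one_pow]⟩ hc
        have := orderOf_dvd_of_pow_eq_one e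
        rw [hv] at this
        exact Nat.not_dvd_of_pos_of_lt hi hip this)
      (fun z => (hνa z).symm.trans (hall z)) ⟨a, ha⟩
    have h1 : a ^ Nat.card W = 1 := congrArg Subtype.val h
    exact hp.out.ne_one (Nat.eq_one_of_dvd_coprimes hW
      ((orderOf_eq_prime (hexp a ha) ha1) ▸ orderOf_dvd_of_pow_eq_one h1) dvd_rfl)
  have hvC : v ∉ centralizer (N : Set G) := fun hc => hz₁ (Subtype.ext (by
    rw [hνv, (show Commute (z₁ : G) v from mem_centralizer_iff.1 hc z₁ z₁.2).mul_pow, hexp _ z₁.2,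
      one_mul, ← hv, pow_orderOf_eq_one]
    rfl))
  obtain ⟨a₀, ha₀, ha₀1, hva₀⟩ := P.exists_commute_mem_normal hnil hcomm hexp hN1 hNX (x := v)
    ⟨1, by rw [pow_one, ← hv, pow_orderOf_eq_one]⟩
  -- elements of nontrivial norm lie in one component
  have hY : ∀ z : N, ν z ≠ 1 → (z : G) * v ∈ P.comp a₀ := by
    intro z hz
    have hg1 : (z : G) * v ≠ 1 := fun e => hz (Subtype.ext (by rw [hνv, e, one_pow]; rfl))
    have hc : Commute ((z : G) * v) a₀ :=
      Commute.mul_left (congrArg Subtype.val (mul_comm z (⟨a₀, ha₀⟩ : N))) hva₀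
    have hm : a₀ ∈ P.comp ((z : G) * v) := P.mem_of_commute hg1 ha₀1 hc fun e => hz (Subtype.ext (by
      rw [hνv, ← orderOf_eq_prime (hexp a₀ ha₀) ha₀1, e, pow_orderOf_eq_one]; rfl))
    exact P.mem_comm hg1 ha₀1 hm
  have hdiff : ∀ z z' : N, ν z ≠ 1 → ν z' ≠ 1 → ((z * z'⁻¹ : N) : G) ∈ P.comp a₀ := by
    intro z z' hz hz'
    have h := mul_mem (hY z hz) (inv_mem (hY z' hz'))
    rwa [mul_inv_rev, show (z : G) * v * (v⁻¹ * (z' : G)⁻¹) = z * (z' : G)⁻¹ by group] at h
  have hker : ∀ k : N, ν k = 1 → (k : G) ∈ P.comp a₀ := by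
    intro k hk
    have h1 : ν (k * z₁) ≠ 1 := by rw [map_mul, hk, one_mul]; exact hz₁
    simpa using hdiff _ _ h1 hz₁
  have hnot : ¬ ∀ z : N, ν z ≠ 1 → (z : G) ∈ P.comp a₀ := fun hall => hNX a₀ ha₀1 fun x hx => by
    by_cases h : ν ⟨x, hx⟩ = 1
    · exact hker _ h
    · exact hall _ h
  have hp2 : p = 2 := by
    by_contra hp2
    refine hnot fun z hz => ?_
    have h2 : ν (z * z) ≠ 1 := fun e => hz (by
      rw [map_mul, ← pow_two] at e
      have hp' : (ν z) ^ p = 1 := Subtype.ext (by rw [SubgroupClass.coe_pow]; exact hexp _ (ν z).2)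
      exact orderOf_eq_one_iff.1 (Nat.eq_one_of_dvd_coprimes
        ((Nat.coprime_primes hp.out Nat.prime_two).2 hp2) (orderOf_dvd_of_pow_eq_one hp')
        (orderOf_dvd_of_pow_eq_one e)))
    have := hdiff _ _ h2 hz
    rwa [mul_assoc, mul_inv_cancel, mul_one] at this
  subst hp2
  have hDD : ∀ z z' : N, ν z ≠ 1 → ν z' ≠ 1 → ν (z * z') = 1 := by
    intro z z' hz hz'
    by_contra h
    have hz'' : (z : G) ∈ P.comp a₀ := by
      have := hdiff _ _ h hz'
      rwa [mul_assoc, mul_inv_cancel, mul_one] at this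
    refine hnot fun d hd => ?_
    have hdz : ((d * z : N) : G) ∈ P.comp a₀ := by
      by_cases h' : ν (d * z) = 1
      · exact hker _ h'
      · have := mul_mem (hdiff _ _ h' hz) hz''
        rw [← Subgroup.coe_mul, inv_mul_cancel_right] at this
        exact this
    have := mul_mem hdz (inv_mem hz'')
    rw [← Subgroup.coe_inv, ← Subgroup.coe_mul, mul_inv_cancel_right] at this
    exact this
  -- fixed points of two conjugates
  have hsq : ∀ z : N, z * z = 1 := fun z => Subtype.ext (by rw [Subgroup.coe_mul, ← pow_two]; exact hexp z z.2)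
  have hfix : ∀ z : N, ν z = 1 → φ v z = z := fun z hz => by
    rw [hνa, Finset.prod_range_succ, Finset.prod_range_succ, Finset.prod_range_zero, one_mul,
      pow_zero, pow_one, map_one, MulAut.one_apply] at hz
    exact (mul_left_cancel (hz.trans (hsq z).symm))
  obtain ⟨w, hw, hw1⟩ := (bot_or_exists_ne_one _).resolve_left hW1
  set c := w * v * w⁻¹ * v⁻¹ with hc
  have hcW : c ∈ W := by
    rw [hc, mul_assoc w v, mul_assoc w (v * w⁻¹)]
    exact mul_mem hw ((Subgroup.mem_normalizer_iff.1 hvW _).1 (inv_mem hw))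
  have hc1 : c ≠ 1 := fun e => by
    rw [hc, mul_inv_eq_one, mul_inv_eq_iff_eq_mul] at e
    exact P.not_commute_pElement hnil hcomm hexp hN1 hNX hw1 (hcoW w hw) hv1
      ⟨1, by rw [pow_one, ← hv, pow_orderOf_eq_one]⟩ e
  have htriv : ∀ z : N, ν z = 1 → ν (φ w⁻¹ z) = 1 → z = 1 := by
    intro z hz hz'
    by_contra hz1
    refine P.not_commute_mem hnil hcomm hexp hNX hc1 (hcoW c hcW) z.2 (fun e => hz1 (Subtype.ext e)) ?_
    have h1 : φ v⁻¹ z = z := by
      conv_lhs => rw [← hfix z hz]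
      rw [← MulAut.mul_apply, ← map_mul, inv_mul_cancel, map_one, MulAut.one_apply]
    have h2 : φ c z = z := by
      rw [hc, map_mul, map_mul, map_mul, MulAut.mul_apply, h1, MulAut.mul_apply, MulAut.mul_apply,
        hfix _ hz', ← MulAut.mul_apply, ← map_mul, mul_inv_cancel, map_one, MulAut.one_apply]
    have h3 := congrArg Subtype.val h2
    rw [hφ] at h3
    exact mul_inv_eq_iff_eq_mul.1 h3
  haveI := Fintype.ofFinite N
  have hle : Nat.card N ≤ 4 := by
    let f : N → Bool × Bool := fun z => (decide (ν z = 1), decide (ν (φ w⁻¹ z) = 1))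
    have hsame : ∀ a b : N, decide (ν a = 1) = decide (ν b = 1) → ν (a * b) = 1 := fun a b e => by
      by_cases h : ν a = 1
      · have hb : ν b = 1 := of_decide_eq_true (e.symm.trans (decide_eq_true h))
        rw [map_mul, h, hb, one_mul]
      · exact hDD a b h (of_decide_eq_false (e.symm.trans (decide_eq_false h)))
    have hinj : Function.Injective f := fun a b e => by
      obtain ⟨e1, e2⟩ := Prod.ext_iff.1 e
      have h := htriv (a * b) (hsame a b e1) (by rw [map_mul]; exact hsame _ _ e2)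
      calc a = a * (b * b) := by rw [hsq b, mul_one]
        _ = b := by rw [← mul_assoc, h, one_mul]
    have := Fintype.card_le_of_injective f hinj
    rw [Nat.card_eq_fintype_card]
    simpa using this
  have hNp : IsPGroup 2 N := fun a => ⟨1, Subtype.ext (by
    rw [pow_one, SubgroupClass.coe_pow]; exact hexp a a.2)⟩
  obtain ⟨j, hj⟩ := IsPGroup.iff_card.1 hNp
  have h2 : Nat.card N ≠ 2 := fun h => hN1 (eq_bot_iff.2 (hZ ▸ card_le_two_center h))
  refine ⟨rfl, ?_, hvC⟩
  rcases j with _ | _ | _ | j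
  · exact absurd (card_eq_one.1 hj) hN1
  · exact absurd hj h2
  · simpa using hj
  · exfalso
    have : 8 ≤ Nat.card N := by rw [hj, pow_add, pow_add, pow_add]; have := Nat.one_le_two_pow (n := j); omega
    omega

/-- An abelian normal subgroup outside all components. -/
theorem of_abelian_normal :
    (∃ H : Subgroup G, Cfsg.IsFrobeniusComplement H) ∨ Nonempty (G ≃* Equiv.Perm (Fin 4)) := by
  classical
  by_cases hidx : p ∣ (Cfsg.pCore p G).index
  swap
  · exact Or.inl (P.frobenius_of_not_dvd_index hnil hZ hcomm hexp hN1 hNX hidx)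
  obtain ⟨q, W, v, hq, hpq, hWq, hW1, hv, hvW⟩ : ∃ (q : ℕ) (W : Subgroup G) (v : G),
      q.Prime ∧ p ≠ q ∧ IsPGroup q W ∧ W ≠ ⊥ ∧ orderOf v = p ∧ v ∈ normalizer (W : Set G) := by
    rcases eq_or_ne p 2 with rfl | hp2
    · exact exists_pair_two hidx
    · by_cases he : 2 ∣ Nat.card G
      · exact absurd hidx (P.not_dvd_index_of_even hnil hZ hcomm hexp hN1 hNX hp2 he)
      · haveI : Group.IsSolvable G :=
          CfsgLib.OddEnd.odd_solvable G (Nat.odd_iff.2 (Nat.two_dvd_ne_zero.1 he))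
        exact exists_pair_solvable hidx
  haveI := Fact.mk hq
  obtain ⟨k, hk⟩ := IsPGroup.iff_card.1 hWq
  have hWco : (Nat.card W).Coprime p := by
    rw [hk]; exact ((Nat.coprime_primes hq hp.out).2 hpq.symm).pow_left k
  obtain ⟨rfl, hN4, hvC⟩ := P.card_eq_four hnil hZ hcomm hexp hN1 hNX hWco hW1 hv hvW
  set K := centralizer (N : Set G)
  have hNK : N ≤ K := fun a ha => mem_centralizer_iff.2 fun b hb =>
    congrArg Subtype.val (mul_comm (⟨b, hb⟩ : N) ⟨a, ha⟩)
  have hKexp : ∀ x ∈ K, x ^ 2 = 1 := fun x hx => P.pow_eq_one_of_centralizer hnil hexp hNX hx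
  haveI hKn : K.Normal := ⟨fun x hx g => mem_centralizer_iff.2 fun b hb => by
    have h := congrArg (fun t => g * t * g⁻¹) (mem_centralizer_iff.1 hx (g⁻¹ * b * g)
      (by simpa using hN.conj_mem b hb g⁻¹))
    simpa [mul_assoc] using h⟩
  haveI hKc : IsMulCommutative K := ⟨⟨fun a b => Subtype.ext (by
    have ha := hKexp a a.2
    have hb := hKexp b b.2
    have hab := hKexp (a * b) (mul_mem a.2 b.2)
    rw [pow_two] at ha hb hab
    show (a : G) * b = b * a
    rw [← inv_eq_of_mul_eq_one_right hab, mul_inv_rev, inv_eq_of_mul_eq_one_right ha,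
      inv_eq_of_mul_eq_one_right hb])⟩⟩
  have hK4 : Nat.card K = 4 := (P.card_eq_four hnil hZ hKc hKexp (fun e => hN1 (eq_bot_iff.2 (e ▸ hNK)))
    (fun g hg hle => hNX g hg (hNK.trans hle)) hWco hW1 hv hvW).2.1
  have hKN : N = K := eq_of_le_of_card_ge hNK (by rw [hK4, hN4])
  -- the action on the three involutions
  haveI := Fintype.ofFinite N
  let f : G →* Equiv.Perm {n : N // n ≠ 1} :=
    { toFun := fun g => (MulAut.conjNormal g : MulAut N).toEquiv.subtypeEquiv fun n => by
        exact not_congr (MulEquiv.map_eq_one_iff _).symm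
      map_one' := Equiv.ext fun n => Subtype.ext (by simp)
      map_mul' := fun a b => Equiv.ext fun n => Subtype.ext (by simp) }
  have hf : f.ker = N := by
    ext g
    rw [MonoidHom.mem_ker, show g ∈ N ↔ g ∈ K from SetLike.ext_iff.1 hKN g, mem_centralizer_iff]
    constructor
    · intro h b hb
      by_cases hb1 : b = 1
      · simp [hb1]
      have h1 : ((MulAut.conjNormal g ⟨b, hb⟩ : N) : G) = b := congrArg (fun n : {n : N // n ≠ 1} => ((n : N) : G))
        (DFunLike.congr_fun h (⟨⟨b, hb⟩, fun e => hb1 (congrArg Subtype.val e)⟩ : {n : N // n ≠ 1}))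
      rw [MulAut.conjNormal_apply] at h1
      exact (mul_inv_eq_iff_eq_mul.1 h1).symm
    · intro h
      refine Equiv.ext fun n => Subtype.ext (Subtype.ext ?_)
      show ((MulAut.conjNormal g n.1 : N) : G) = n.1
      rw [MulAut.conjNormal_apply, ← h n.1 n.1.2, mul_inv_cancel_right]
  have hperm : Nat.card (Equiv.Perm {n : N // n ≠ 1}) = 6 := by
    rw [Nat.card_perm, Nat.card_eq_fintype_card, Fintype.card_subtype_compl,
      Fintype.card_subtype_eq, ← Nat.card_eq_fintype_card, hN4]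
    rfl
  have hr6 : Nat.card f.range ∣ 6 := hperm ▸ card_subgroup_dvd_card _
  have hvK : v ∉ f.ker := fun h => hvC (hKN ▸ hf ▸ h)
  have h2 : 2 ∣ Nat.card f.range := by
    refine (Eq.dvd ?_).trans (Subgroup.orderOf_dvd_natCard f.range (MonoidHom.mem_range.2 ⟨v, rfl⟩))
    refine (orderOf_eq_prime ?_ hvK).symm
    rw [← map_pow, ← hv, pow_orderOf_eq_one, map_one]
  obtain ⟨w, hw, hw1⟩ := (bot_or_exists_ne_one _).resolve_left hW1
  have hq' : q ∣ Nat.card f.range := by
    refine dvd_trans ?_ (Subgroup.orderOf_dvd_natCard f.range (MonoidHom.mem_range.2 ⟨w, rfl⟩))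
    have h1 : f w ≠ 1 := fun e => by
      have hwN : w ∈ N := hf ▸ (show w ∈ f.ker from e)
      have h2' := orderOf_eq_prime (hexp w hwN) hw1
      exact hp.out.ne_one (Nat.eq_one_of_dvd_coprimes hWco (dvd_trans (dvd_of_eq h2'.symm) (Subgroup.orderOf_dvd_natCard W hw)) dvd_rfl)
    obtain ⟨i, -, hi⟩ := (Nat.dvd_prime_pow hq).1 (hk ▸ (orderOf_map_dvd f w).trans (Subgroup.orderOf_dvd_natCard W hw))
    rcases i with _ | i
    · exact absurd (orderOf_eq_one_iff.1 (by simpa using hi)) h1
    · exact hi ▸ dvd_pow_self q (Nat.succ_ne_zero i)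
  have hq3 : q = 3 := by
    have := hq'.trans hr6
    rcases (Nat.dvd_mul.1 (show q ∣ 2 * 3 by norm_num; exact this)) with ⟨a, b, ha, hb, hab⟩
    rcases (Nat.dvd_prime Nat.prime_two).1 ha with rfl | rfl <;>
      rcases (Nat.dvd_prime Nat.prime_three).1 hb with rfl | rfl
    · exact absurd (by simpa using hab.symm) hq.ne_one
    · simpa using hab.symm
    · exact absurd (by simpa using hab) hpq
    · exact absurd (by norm_num at hab; exact hab ▸ hq) (by norm_num)
  have hrange : Nat.card f.range = 6 := Nat.dvd_antisymm hr6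
    (Nat.Coprime.mul_dvd_of_dvd_of_dvd (by norm_num : Nat.Coprime 2 3) h2 (hq3 ▸ hq'))
  have hG : Nat.card G = 24 := by
    rw [card_eq_card_quotient_mul_card_subgroup f.ker,
      Nat.card_congr (QuotientGroup.quotientKerEquivRange f).toEquiv, hrange, hf, hN4]
  refine Or.inr (CfsgLib.SolvLinK.exists_equiv_perm_four hG N hN4 (le_of_eq hKN.symm) ?_)
  intro L hL hLN
  by_contra hne
  push Not at hne
  have hd : Nat.card L ∣ 4 := hN4 ▸ card_dvd_of_le hLN
  obtain ⟨i, hi, hic⟩ := (Nat.dvd_prime_pow Nat.prime_two).1 (show Nat.card L ∣ 2 ^ 2 from hd)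
  interval_cases i
  · exact hne.1 (card_eq_one.1 (by simpa using hic))
  · exact hne.1 (eq_bot_iff.2 (hZ ▸ card_le_two_center (N := L) (by simpa using hic)))
  · exact hne.2 (eq_of_le_of_card_ge hLN (by rw [hN4, hic]; norm_num))

end Part

end CfsgLib.Partition
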