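import Cfsg.Agent.Partition.Basic
import Cfsg.Agent.NormCyclic.Main

/-!
# Groups with a nontrivial partition: extensions of `PSL(2, q)` by an involution

For odd `q` such an extension is `PGL(2, q)`.
-/

set_option autoImplicit false
set_option linter.unusedSectionVars false
set_option linter.style.haveILetI false

namespace CfsgLib.Partition

open Subgroup
open CfsgLib.NormCyclic.PSLAut CfsgLib.AutPSL

universe u

variable {F : Type} [Field F] [Fintype F]

/-- The product of two non-squares is a square. -/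
theorem isSquare_mul_inv_of_not (x y : Fˣ) (hx : ¬ IsSquare x) (hy : ¬ IsSquare y) :
    IsSquare (x * y⁻¹) := by
  obtain ⟨ν, hν⟩ := IsCyclic.exists_generator (α := Fˣ)
  have hor : ∀ x : Fˣ, IsSquare x ∨ IsSquare (x * ν) := by
    intro x
    obtain ⟨i, rfl⟩ := Subgroup.mem_zpowers_iff.1 (hν x)
    obtain ⟨k, hk | hk⟩ := Int.even_or_odd' i
    · exact Or.inl ⟨ν ^ k, by rw [← zpow_add, hk, two_mul]⟩
    · exact Or.inr ⟨ν ^ (k + 1), by rw [← zpow_add, ← zpow_add_one, hk]; ring_nf⟩
  have := ((hor x).resolve_left hx).mul ((hor y).resolve_left hy).inv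
  rwa [mul_inv_rev, mul_assoc, mul_inv_cancel_left] at this

/-- Elements fixed by an involutory automorphism of a finite field of odd order are squares. -/
theorem isSquare_of_fixed (hodd : Odd (Fintype.card F)) {σ : F ≃+* F} (hσ : σ ≠ 1)
    (hσσ : ∀ x, σ (σ x) = x) {c : Fˣ} (hc : σ (c : F) = c) : IsSquare c := by
  classical
  have hchar : ringChar F ≠ 2 := fun h =>
    Nat.not_even_iff_odd.2 hodd (Nat.even_iff.2 (FiniteField.even_card_iff_char_two.1 h))
  have h2 : (2 : F) ≠ 0 := Ring.two_ne_zero hchar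
  set K : Subfield F := RingHom.eqLocusField σ.toRingHom (RingHom.id F) with hK
  have hmem : ∀ x : F, x ∈ K ↔ σ x = x := fun x => Iff.rfl
  obtain ⟨w, hw⟩ : ∃ w, σ w ≠ w := by
    by_contra h; push Not at h; exact hσ (RingEquiv.ext h)
  set v := w - σ w
  have hv : σ v = -v := by simp [v, map_sub, hσσ]
  have hv0 : v ≠ 0 := sub_ne_zero.2 hw.symm
  have hcard : Fintype.card F = Fintype.card K * Fintype.card K := by
    rw [← Fintype.card_prod]
    refine (Fintype.card_of_bijective (f := fun p : K × K => (p.1 : F) + (p.2 : F) * v) ⟨?_, fun x => ?_⟩).symm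
    · rintro ⟨a, b⟩ ⟨a', b'⟩ h
      simp only at h
      have h' := congrArg σ h
      rw [map_add, map_add, map_mul, map_mul, hv, (hmem _).1 a.2, (hmem _).1 b.2, (hmem _).1 a'.2,
        (hmem _).1 b'.2] at h'
      have hb : (b : F) = b' := by
        have : (2 * v) * ((b : F) - b') = 0 := by linear_combination h - h'
        exact sub_eq_zero.1 ((mul_eq_zero.1 this).resolve_left (mul_ne_zero h2 hv0))
      have ha : (a : F) = a' := by rw [hb] at h; exact add_right_cancel h
      exact Prod.ext (Subtype.ext ha) (Subtype.ext hb)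
    · refine ⟨⟨⟨(x + σ x) / 2, ?_⟩, ⟨(x - σ x) / (2 * v), ?_⟩⟩, ?_⟩
      · rw [hmem, map_div₀, map_add, hσσ, map_ofNat]; ring
      · rw [hmem, map_div₀, map_sub, hσσ, map_mul, map_ofNat, hv]
        rw [div_eq_div_iff (mul_ne_zero h2 (neg_ne_zero.2 hv0)) (mul_ne_zero h2 hv0)]
        ring
      · simp only
        field_simp
        ring
  obtain ⟨m, hm⟩ : Odd (Fintype.card K) := by
    rw [hcard] at hodd; exact (Nat.odd_mul.1 hodd).1
  have hdiv : Fintype.card F / 2 = (Fintype.card K - 1) * (m + 1) := by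
    rw [hcard, hm, show (2 * m + 1) * (2 * m + 1) = 1 + 2 * (2 * m * (m + 1)) by ring,
      Nat.add_mul_div_left _ _ two_pos, show 2 * m + 1 - 1 = 2 * m by omega]
    norm_num
  have h1 : (⟨(c : F), (hmem _).2 hc⟩ : K) ^ (Fintype.card K - 1) = 1 :=
    FiniteField.pow_card_sub_one_eq_one _ fun e => c.ne_zero (congrArg Subtype.val e)
  obtain ⟨x, hx⟩ := (FiniteField.isSquare_iff hchar c.ne_zero).2 (by
    rw [hdiv, pow_mul, show (c : F) ^ (Fintype.card K - 1) = 1 from congrArg Subtype.val h1, one_pow])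
  have hx0 : x ≠ 0 := fun e => c.ne_zero (by rw [hx, e, mul_zero])
  exact ⟨Units.mk0 x hx0, Units.ext hx⟩

/-- Automorphisms with square determinant are inner. -/
theorem innDiag_mem_inn {g : GL (Fin 2) F} (hg : IsSquare (Matrix.GeneralLinearGroup.det g)) :
    innDiagHom 2 F g ∈ (inn : Matrix.SpecialLinearGroup (Fin 2) F →* _).range := by
  obtain ⟨c, hc⟩ := hg
  refine ⟨⟨((c⁻¹ : Fˣ) : F) • (g : Matrix (Fin 2) (Fin 2) F), ?_⟩, ?_⟩
  · rw [Matrix.det_smul, Fintype.card_fin, ← Units.val_pow_eq_pow_val,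
      ← Matrix.GeneralLinearGroup.val_det_apply, hc, ← Units.val_mul, pow_two,
      show c⁻¹ * c⁻¹ * (c * c) = 1 by group]
    rfl
  · rw [← mul_inv_eq_one]
    show innDiagHom 2 F _ * (innDiagHom 2 F g)⁻¹ = 1
    rw [← map_inv, ← map_mul, innDiagHom_apply]
    refine semiAut_scalar (c := ((c⁻¹ : Fˣ) : F)) ?_
    rw [Units.val_mul]
    show ((c⁻¹ : Fˣ) : F) • (g : Matrix (Fin 2) (Fin 2) F) * _ = _
    rw [Matrix.smul_mul, ← Units.val_mul, mul_inv_cancel, Units.val_one]

variable {G : Type u} [Group G] [Finite G]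

/-- An extension of `PSL(2, q)`, `q` odd, by an involution in a group with a partition. -/
theorem pgl_of_extension (P : Part G) (hnil : P.Nilp) (L : Subgroup G) [L.Normal]
    (hC : centralizer (L : Set G) = ⊥) (e : L ≃* Matrix.ProjectiveSpecialLinearGroup (Fin 2) F)
    (hodd : Odd (Fintype.card F)) {u : G} (hu : orderOf u = 2) (huL : u ∉ L)
    (hgen : ∀ g : G, g ∈ L ∨ g * u ∈ L) :
    Nonempty (G ≃* (GL (Fin 2) F ⧸ center (GL (Fin 2) F))) := by
  classical
  set ι : G →* MulAut (Matrix.ProjectiveSpecialLinearGroup (Fin 2) F) :=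
    (MulAut.congr e).toMonoidHom.comp MulAut.conjNormal with hι
  have hιinj : Function.Injective ι := by
    rw [← MonoidHom.ker_eq_bot_iff, eq_bot_iff, ← hC]
    intro g hg
    rw [mem_centralizer_iff]
    intro m hm
    have h1 : MulAut.conjNormal (H := L) g = 1 :=
      (MulAut.congr e).injective (by rw [map_one]; exact hg)
    have h2 := congrArg Subtype.val (DFunLike.congr_fun h1 (⟨m, hm⟩ : L))
    rw [MulAut.conjNormal_apply] at h2
    exact (mul_inv_eq_iff_eq_mul.1 h2).symm
  have hιL : ∀ l : L, ι (l : G) = MulAut.conj (e l) := fun l => MulEquiv.ext fun y => by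
    show e (MulAut.conjNormal (l : G) (e.symm y)) = e l * y * (e l)⁻¹
    rw [show MulAut.conjNormal (l : G) (e.symm y) = l * e.symm y * l⁻¹
      from Subtype.ext (MulAut.conjNormal_apply _ _)]
    simp
  set ℓ : Matrix.SpecialLinearGroup (Fin 2) F → G := fun s => ((e.symm (QuotientGroup.mk s) : L) : G)
  have hℓ : ∀ s, ι (ℓ s) = inn s := fun s => by
    rw [hιL, e.apply_symm_apply, inn_apply, semiAut_toGL]
  have hinv : ∀ g : G, ι g ∈ (inn : Matrix.SpecialLinearGroup (Fin 2) F →* _).range → g ∈ L := by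
    rintro g ⟨s, hs⟩
    rw [← hιinj ((hℓ s).trans hs)]
    exact SetLike.coe_mem _
  have huu : u * u = 1 := by rw [← pow_two, ← hu, pow_orderOf_eq_one]
  obtain ⟨h, σ, hhσ⟩ := exists_semi_two (ι u)
  have h2sq := congrArg ι huu
  rw [map_mul, hhσ, semiAut_mul, map_one] at h2sq
  obtain ⟨hσ2, c, hc⟩ := semiAut_eq_one le_rfl h2sq
  have hσσ : ∀ x, σ (σ x) = x := fun x => RingEquiv.congr_fun hσ2 x
  have h2F : (2 : F) ≠ 0 := by
    refine Ring.two_ne_zero fun hr => ?_
    exact Nat.not_even_iff_odd.2 hodd (Nat.even_iff.2 (FiniteField.even_card_iff_char_two.1 hr))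
  have hσ1 : σ = 1 := by
    by_contra hσ
    by_cases hsq : IsSquare (Matrix.GeneralLinearGroup.det h)
    · -- a field involution centralises two unipotent elements
      obtain ⟨s₀, hs₀⟩ := innDiag_mem_inn hsq
      set v := (ℓ s₀)⁻¹ * u
      have hv : ι v = semiAut (1 : GL (Fin 2) F) σ := by
        show ι ((ℓ s₀)⁻¹ * u) = _
        rw [map_mul, map_inv, hℓ, hs₀, hhσ, ← map_inv, innDiagHom_apply, semiAut_mul, glMap_refl,
          inv_mul_cancel]
        rfl
      have hv2 : orderOf v = 2 := by
        refine orderOf_eq_prime (hιinj ?_) fun e1 => hσ ?_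
        · rw [map_pow, map_one, hv, pow_two, semiAut_mul, map_one, mul_one, hσ2]
          exact semiAut_one
        · rw [e1, map_one] at hv
          exact (semiAut_eq_one le_rfl hv.symm).1
      have hv1 : v ≠ 1 := fun e1 => by rw [e1, orderOf_one] at hv2; omega
      have hfix : ∀ s : Matrix.SpecialLinearGroup (Fin 2) F,
          (s : Matrix (Fin 2) (Fin 2) F).map σ = (s : Matrix (Fin 2) (Fin 2) F) →
          Commute v (ℓ s) := fun s hs => hιinj (by
        rw [ι.map_mul v, ι.map_mul (ℓ s) v, hv, hℓ]; exact (comm_field_inn hs).symm.eq.symm ▸ rfl)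
      set lw : Matrix.SpecialLinearGroup (Fin 2) F := wy * up 1 * wy⁻¹
      have hupfix : ((up 1 : Matrix.SpecialLinearGroup (Fin 2) F) : Matrix (Fin 2) (Fin 2) F).map σ =
          ((up 1 : Matrix.SpecialLinearGroup (Fin 2) F) : Matrix (Fin 2) (Fin 2) F) := by
        ext i j; fin_cases i <;> fin_cases j <;> simp [up]
      have hlw : (lw : Matrix (Fin 2) (Fin 2) F) = !![1, 0; -1, 1] := by
        show ((wy * up 1 * wy⁻¹ : Matrix.SpecialLinearGroup (Fin 2) F) : Matrix (Fin 2) (Fin 2) F) = _
        rw [coe_conj_wy]; simp [coe_up]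
      have hlwfix : (lw : Matrix (Fin 2) (Fin 2) F).map σ = (lw : Matrix (Fin 2) (Fin 2) F) := by
        rw [hlw]; ext i j; fin_cases i <;> fin_cases j <;> simp
      have hodd' : ∀ s : Matrix.SpecialLinearGroup (Fin 2) F, s ^ Fintype.card F = 1 →
          Odd (orderOf (ℓ s)) := fun s hs =>
        hodd.of_dvd_nat (orderOf_dvd_of_pow_eq_one (hιinj (by rw [map_pow, map_one, hℓ, ← map_pow, hs, map_one])))
      have hup : (up 1 : Matrix.SpecialLinearGroup (Fin 2) F) ^ Fintype.card F = 1 := by
        rw [up_pow, FiniteField.cast_card_eq_zero, zero_mul]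
        apply Subtype.ext; simp [up, Matrix.one_fin_two]
      have hlwp : lw ^ Fintype.card F = 1 := by
        show (wy * up 1 * wy⁻¹) ^ Fintype.card F = 1
        rw [conj_pow, hup, mul_one, mul_inv_cancel]
      set a := ℓ (up 1)
      set b := ℓ lw
      have hmem : ∀ g : G, Odd (orderOf g) → Commute v g → g ∈ P.comp v := fun g hg hgv => by
        by_cases hg1 : g = 1
        · exact hg1 ▸ one_mem _
        · exact P.mem_of_commute hv1 hg1 hgv fun eo => by
            rw [eo, hv2] at hg; exact (by decide : ¬ Odd 2) hg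
      set w := ℓ wy
      have hw : w = a * b * a := hιinj (by
        rw [map_mul, map_mul, hℓ, hℓ, hℓ, ← map_mul, ← map_mul]
        refine congrArg _ (Subtype.ext ?_)
        rw [Matrix.SpecialLinearGroup.coe_mul, Matrix.SpecialLinearGroup.coe_mul, hlw, coe_up, coe_wy]
        simp [Matrix.mul_fin_two])
      have ha := hmem a (hodd' _ hup) (hfix _ hupfix)
      have hb := hmem b (hodd' _ hlwp) (hfix _ hlwfix)
      have hwY : w ∈ P.comp v := hw ▸ mul_mem (mul_mem ha hb) ha
      have hw2 : orderOf w ∣ 2 := orderOf_dvd_of_pow_eq_one (hιinj (by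
        rw [map_pow, map_one, hℓ, pow_two, ← map_mul, inn_apply]
        refine semiAut_scalar (c := -1) ?_
        ext i j; fin_cases i <;> fin_cases j <;> simp [coe_wy, Matrix.SpecialLinearGroup.toGL, Matrix.mul_fin_two]))
      haveI := hnil v hv1
      have hcom : Commute w a := congrArg Subtype.val (CfsgLib.FGSA.commute_of_coprime_orderOf
        (⟨w, hwY⟩ : P.comp v) ⟨a, ha⟩ (by
          rw [Subgroup.orderOf_mk, Subgroup.orderOf_mk]
          exact (Nat.coprime_two_left.2 (hodd' _ hup)).coprime_dvd_left hw2))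
      have h3 : inn (wy * up 1) = inn (up 1 * wy : Matrix.SpecialLinearGroup (Fin 2) F) := by
        rw [map_mul, map_mul, ← hℓ, ← hℓ, ← map_mul, ← map_mul, hcom.eq]
      obtain ⟨k, hk⟩ := inn_eq h3
      have h00 := congrFun (congrFun hk 0) 0
      have h01 := congrFun (congrFun hk 0) 1
      simp [Matrix.SpecialLinearGroup.coe_mul, coe_wy, coe_up, Matrix.mul_fin_two] at h00 h01
      rw [h00] at h01
      simp at h01
    · -- the twisted case has no involutions
      set N : GL (Fin 2) F := h * glMap σ h with hN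
      have hc' : (N : Matrix (Fin 2) (Fin 2) F) = c • 1 := hc
      have hcomm : glMap σ h * h = N := by
        have h1 : N * h = h * N := Units.ext (by rw [Units.val_mul N h, Units.val_mul h N, hc']; simp)
        calc glMap σ h * h = h⁻¹ * (N * h) := by rw [hN]; group
          _ = N := by rw [h1, inv_mul_cancel_left]
      have hσN : glMap σ N = N := by
        have hhh : glMap σ (glMap σ h) = h := Units.ext (by
          ext i j; simp [coe_glMap, hσσ])
        rw [hN, map_mul, hhh, hcomm, ← hN]
      have hσc : σ c = c := by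
        have h1 := congrArg (fun M : GL (Fin 2) F => (M : Matrix (Fin 2) (Fin 2) F) 0 0) hσN
        simpa [coe_glMap, hc'] using h1
      have hc0 : c ≠ 0 := fun e0 =>
        (Matrix.GeneralLinearGroup.det N).ne_zero (by
          rw [Matrix.GeneralLinearGroup.val_det_apply, hc', e0, zero_smul]; simp)
      set d := Matrix.GeneralLinearGroup.det h with hd
      have hdet : (d : F) * σ (d : F) = c * c := by
        have h1 : Matrix.det ((N : GL (Fin 2) F) : Matrix (Fin 2) (Fin 2) F) = c * c := by
          rw [hc', Matrix.det_smul, Matrix.det_one, Fintype.card_fin, mul_one, pow_two]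
        rw [← h1, hN, Units.val_mul, Matrix.det_mul, hd, Matrix.GeneralLinearGroup.val_det_apply]
        congr 1
        exact (det_map_ringEquiv σ _).symm
      have he : IsSquare (d * (Units.mk0 c hc0)⁻¹) :=
        isSquare_of_norm_one h2F hσ hσσ isSquare_mul_inv_of_not (by
          rw [Units.val_mul, Units.val_inv_eq_inv_val, Units.val_mk0, map_mul, map_inv₀, hσc]
          field_simp
          linear_combination hdet)
      refine hsq ?_
      have := he.mul (isSquare_of_fixed hodd hσ hσσ (c := Units.mk0 c hc0) hσc)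
      rwa [inv_mul_cancel_right] at this
  subst hσ1
  have hιu : ι u = innDiagHom 2 F h := hhσ
  have hns : ¬ IsSquare (Matrix.GeneralLinearGroup.det h) := fun hq =>
    huL (hinv u (hιu ▸ innDiag_mem_inn hq))
  have hinn : ∀ s, inn s ∈ ι.range := fun s => ⟨ℓ s, hℓ s⟩
  have hrange : ι.range = (innDiagHom 2 F).range := by
    refine le_antisymm ?_ ?_
    · rintro _ ⟨g, rfl⟩
      have hL : ∀ l ∈ L, ι l ∈ (innDiagHom 2 F).range := fun l hl => by
        obtain ⟨s, hs⟩ := QuotientGroup.mk_surjective (e ⟨l, hl⟩)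
        rw [show l = ℓ s by simp [ℓ, hs], hℓ]
        exact ⟨_, (inn_apply s).symm⟩
      rcases hgen g with hg | hg
      · exact hL g hg
      · have := mul_mem (hL _ hg) (inv_mem (show ι u ∈ (innDiagHom 2 F).range from ⟨h, hιu.symm⟩))
        rwa [← map_inv, ← map_mul, mul_inv_cancel_right] at this
    · rintro _ ⟨g, rfl⟩
      by_cases hg : IsSquare (Matrix.GeneralLinearGroup.det g)
      · obtain ⟨s, hs⟩ := innDiag_mem_inn hg
        exact hs ▸ hinn s
      · obtain ⟨s, hs⟩ := innDiag_mem_inn (g := g * h⁻¹)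
          (by rw [map_mul, map_inv]; exact isSquare_mul_inv_of_not _ _ hg hns)
        have := mul_mem (hinn s) (show ι u ∈ ι.range from ⟨u, rfl⟩)
        rwa [hs, hιu, ← map_mul, inv_mul_cancel_right] at this
  have hker : (innDiagHom 2 F).ker = center (GL (Fin 2) F) := by
    refine le_antisymm (fun g hg => ?_) (fun g hg => ?_)
    · obtain ⟨-, c, hc⟩ := semiAut_eq_one le_rfl (show semiAut g (RingEquiv.refl F) = 1 from hg)
      refine mem_center_iff.2 fun x => Units.ext ?_
      rw [Units.val_mul, Units.val_mul, hc]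
      simp
    · rw [Matrix.GeneralLinearGroup.center_eq_range_scalar] at hg
      obtain ⟨c, rfl⟩ := hg
      refine semiAut_scalar (c := (c : F)) ?_
      rw [Matrix.smul_one_eq_diagonal]
      rfl
  exact ⟨(MonoidHom.ofInjective hιinj).trans ((MulEquiv.subgroupCongr hrange).trans
    ((QuotientGroup.quotientMulEquivOfEq hker.symm).trans (QuotientGroup.quotientKerEquivRange _)).symm)⟩

end CfsgLib.Partition
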