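import Cfsg.Agent.Partition.SylowInside
import Cfsg.Agent.Invol.ThompsonTransfer
import Cfsg.Agent.InvChar.UniqueInvolution
import Cfsg.Agent.S0508

/-!
# Groups with a nontrivial partition: no component contains a Sylow 2-subgroup

The component of a central involution `z` of a Sylow 2-subgroup `S` then meets `S` in an abelian
subgroup inverted by the involutions of `S` outside it. If this subgroup has index two it is
cyclic, by transfer, and a simple group is then a linear fractional group of odd characteristic.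
-/

set_option autoImplicit false
set_option linter.unusedSectionVars false
set_option linter.style.haveILetI false

namespace CfsgLib.Partition

open Subgroup
open scoped Pointwise IsMulCommutative

universe u

variable {G : Type u} [Group G] [Finite G]

theorem quaternion_not_comm {n : ℕ} (hn : 1 ≤ n) :
    ¬ ∀ a b : QuaternionGroup (2 ^ n), a * b = b * a := by
  intro h
  have e := h (QuaternionGroup.a 1) (QuaternionGroup.xa 0)
  rw [QuaternionGroup.a_mul_xa, QuaternionGroup.xa_mul_a, QuaternionGroup.xa.injEq] at e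
  simp only [zero_sub, zero_add] at e
  have h2 : ((2 : ℕ) : ZMod (2 * 2 ^ n)) = 0 := by push_cast; linear_combination -e
  have h3 := Nat.le_of_dvd two_pos ((ZMod.natCast_eq_zero_iff _ _).1 h2)
  have h4 : 2 ≤ 2 ^ n := le_self_pow (by norm_num) (by omega)
  omega

namespace Part

variable (P : Part G) (S : Sylow 2 G) {z : G} (hz : orderOf z = 2) (hzS : z ∈ (S : Subgroup G))
  (hzc : ∀ s ∈ (S : Subgroup G), Commute s z)

include hz hzc

theorem sylow_le_normalizer : (S : Subgroup G) ≤ normalizer (P.comp z : Set G) := fun _ hs =>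
  P.normalizer_of_commute (CfsgLib.Invol.ne_one hz) (P.mem z (CfsgLib.Invol.ne_one hz))
    (CfsgLib.Invol.ne_one hz) (hzc _ hs)

/-- Elements of the Sylow subgroup outside the component are involutions inverting it. -/
theorem outside {s : G} (hs : s ∈ (S : Subgroup G)) (hsX : s ∉ P.comp z) :
    orderOf s = 2 ∧ ∀ x ∈ P.comp z, s * x * s⁻¹ = x⁻¹ := by
  have hz1 := CfsgLib.Invol.ne_one hz
  have ho := (P.orderOf_eq_of_commute hz1 (P.mem z hz1) hz1 hsX (hzc s hs).symm).2
  rw [hz] at ho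
  exact P.inverts hz1 (P.sylow_le_normalizer S hz hzc hs) hsX
    (by rw [CfsgLib.Invol.mul_self_eq_one ho]; exact one_mem _)

theorem comp_comm (hS : ¬ (S : Subgroup G) ≤ P.comp z) :
    ∀ x ∈ P.comp z, ∀ y ∈ P.comp z, x * y = y * x := by
  obtain ⟨s, hs, hsX⟩ := SetLike.not_le_iff_exists.1 hS
  exact comm_of_inverts (P.outside S hz hzc hs hsX).2

/-- The involutions of the component lie in the Sylow subgroup. -/
theorem invol_mem_sylow (hS : ¬ (S : Subgroup G) ≤ P.comp z) {t : G} (ht : t ∈ P.comp z)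
    (ht2 : t * t = 1) : t ∈ (S : Subgroup G) := by
  haveI : Fact (Nat.Prime 2) := ⟨Nat.prime_two⟩
  have hc : ∀ a ∈ (S : Subgroup G), a * t * a⁻¹ = t := by
    intro a ha
    by_cases haX : a ∈ P.comp z
    · rw [P.comp_comm S hz hzc hS a haX t ht, mul_inv_cancel_right]
    · rw [(P.outside S hz hzc ha haX).2 t ht, inv_eq_of_mul_eq_one_right ht2]
  have hle : (S : Subgroup G) ≤ normalizer (zpowers t : Set G) := fun a ha =>
    Subgroup.centralizer_le_normalizer _ (mem_centralizer_iff.2 fun b hb => by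
      obtain ⟨k, rfl⟩ := mem_zpowers_iff.1 hb
      exact ((show Commute a t from mul_inv_eq_iff_eq_mul.1 (hc a ha)).zpow_right k).eq.symm)
  have htp : IsPGroup 2 (zpowers t) := fun x => ⟨1, Subtype.ext (by
    obtain ⟨k, hk⟩ := mem_zpowers_iff.1 x.2
    rw [pow_one, SubgroupClass.coe_pow, ← hk, ← zpow_natCast, ← zpow_mul, mul_comm, zpow_mul,
      zpow_natCast, pow_two, ht2, one_zpow, OneMemClass.coe_one])⟩
  have hsup : IsPGroup 2 ((S : Subgroup G) ⊔ zpowers t : Subgroup G) := S.2.to_sup_of_normal_right' htp hle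
  exact S.3 hsup le_sup_left ▸ mem_sup_right (mem_zpowers t)

include hzS

/-- If the component meets the Sylow subgroup in a subgroup of index two, then it contains only
one involution. -/
theorem unique_invol (hnil : P.Nilp) (hs : Semi G) [Nontrivial G]
    (hS : ¬ (S : Subgroup G) ≤ P.comp z)
    (hidx : ∀ a ∈ (S : Subgroup G), a ∉ P.comp z → ∀ b ∈ (S : Subgroup G), b ∉ P.comp z →
      a * b ∈ P.comp z)
    {w : G} (hw : w ∈ P.comp z) (hw2 : w * w = 1) (hw1 : w ≠ 1) : w = z := by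
  classical
  by_contra hwz
  haveI : Fact (Nat.Prime 2) := ⟨Nat.prime_two⟩
  have hz1 := CfsgLib.Invol.ne_one hz
  have hzX := P.mem z hz1
  have hzz := CfsgLib.Invol.mul_self_eq_one hz
  have hwS := P.invol_mem_sylow S hz hzc hS hw hw2
  set X := P.comp z
  -- involutions outside are not conjugate into the component
  have hfus : ∀ s ∈ (S : Subgroup G), s ∉ X → ∀ a : G, a * s * a⁻¹ ∉ (S : Subgroup G) ⊓ X := by
    intro s hs hsX a ha
    obtain ⟨haS, haX⟩ := mem_inf.1 ha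
    set p := a * s * a⁻¹ with hp
    have hp2 : p * p = 1 := by
      rw [hp, show a * s * a⁻¹ * (a * s * a⁻¹) = a * (s * s) * a⁻¹ by group,
        CfsgLib.Invol.mul_self_eq_one (P.outside S hz hzc hs hsX).1]
      group
    have hSp : (S : Subgroup G) ≤ centralizer ({p} : Set G) := fun b hb => by
      refine mem_centralizer_singleton_iff.2 ?_
      by_cases hbX : b ∈ X
      · exact P.comp_comm S hz hzc hS b hbX p haX
      · have := (P.outside S hz hzc hb hbX).2 p haX
        rw [inv_eq_of_mul_eq_one_right hp2] at this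
        exact mul_inv_eq_iff_eq_mul.1 this
    have hcomm : ∀ e ∈ X, e * e = 1 → Commute e s := fun e he he2 => by
      have := (P.outside S hz hzc hs hsX).2 e he
      rw [inv_eq_of_mul_eq_one_right he2] at this
      exact (mul_inv_eq_iff_eq_mul.1 this).symm
    set V := closure ({z, w} : Set G)
    have hVS : V ≤ (S : Subgroup G) := (closure_le _).2 (Set.insert_subset hzS (Set.singleton_subset_iff.2 hwS))
    set V' := V.map (MulAut.conj a).toMonoidHom
    have hVC : V' ≤ centralizer ({p} : Set G) := by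
      refine map_le_iff_le_comap.2 ((closure_le _).2 ?_)
      rintro e (rfl | rfl) <;> refine mem_comap.2 (mem_centralizer_singleton_iff.2 ?_)
      · exact ((hcomm _ hzX hzz).map (MulAut.conj a)).eq
      · exact ((hcomm _ hw hw2).map (MulAut.conj a)).eq
    set C := centralizer ({p} : Set G)
    obtain ⟨R, hR⟩ := ((S.2.to_le hVS).map (MulAut.conj a).toMonoidHom |>.comap_subtype (K := C)).exists_le_sylow
    obtain ⟨c, hc⟩ := MulAction.exists_smul_eq C R (S.subtype hSp)
    have hmove : ∀ e ∈ V, (c : G) * (a * e * a⁻¹) * (c : G)⁻¹ ∈ (S : Subgroup G) := by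
      intro e he
      have h1 : (⟨a * e * a⁻¹, hVC (mem_map_of_mem _ he)⟩ : C) ∈ (R : Subgroup C) :=
        hR (mem_comap.2 (mem_map_of_mem _ he))
      have h2 : MulAut.conj c ⟨a * e * a⁻¹, hVC (mem_map_of_mem _ he)⟩ ∈ ((c • R : Sylow 2 C) : Subgroup C) := by
        rw [Sylow.smul_def, Sylow.pointwise_smul_def]
        exact ⟨_, h1, rfl⟩
      rw [hc] at h2
      exact h2
    set b := (c : G) * a with hb
    have hbs : b * s * b⁻¹ = p := by
      have h1 : (c : G) * p = p * c := mem_centralizer_singleton_iff.1 c.2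
      rw [hb, show (c : G) * a * s * ((c : G) * a)⁻¹ = (c : G) * p * (c : G)⁻¹ by rw [hp]; group, h1,
        mul_inv_cancel_right]
    have hbS : ∀ e ∈ V, b * e * b⁻¹ ∈ (S : Subgroup G) := fun e he => by
      rw [hb, show (c : G) * a * e * ((c : G) * a)⁻¹ = (c : G) * (a * e * a⁻¹) * (c : G)⁻¹ by group]
      exact hmove e he
    have hfin : ∀ e ∈ X, e ≠ 1 → b * e * b⁻¹ ∈ X → False := by
      intro e he he1 heX
      have hN := P.mem_normalizer hz1 he he1 heX
      exact hsX ((Subgroup.mem_normalizer_iff.1 hN s).2 (hbs.symm ▸ haX))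
    have hzV : z ∈ V := subset_closure (Set.mem_insert z _)
    have hwV : w ∈ V := subset_closure (Set.mem_insert_of_mem _ (Set.mem_singleton _))
    by_cases h1 : b * z * b⁻¹ ∈ X
    · exact hfin z hzX hz1 h1
    by_cases h2 : b * w * b⁻¹ ∈ X
    · exact hfin w hw hw1 h2
    refine hfin (z * w) (mul_mem hzX hw) (fun e => hwz ?_) ?_
    · rw [← inv_eq_of_mul_eq_one_right e, inv_eq_of_mul_eq_one_right hzz]
    · rw [show b * (z * w) * b⁻¹ = b * z * b⁻¹ * (b * w * b⁻¹) by group]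
      exact hidx _ (hbS z hzV) h1 _ (hbS w hwV) h2
  obtain ⟨s, hsS, hsX⟩ := SetLike.not_le_iff_exists.1 hS
  set Q := (S : Subgroup G) ⊓ X
  have hrel : Q.relIndex (S : Subgroup G) = 2 := by
    refine (Subgroup.index_eq_two_iff).2 ⟨⟨s, hsS⟩, fun b => ?_⟩
    by_cases hb : (b : G) ∈ X
    · refine Or.inr ⟨mem_subgroupOf.2 (mem_inf.2 ⟨b.2, hb⟩), fun h => hsX ?_⟩
      exact (Subgroup.mul_mem_cancel_left _ hb).1 (mem_inf.1 (mem_subgroupOf.1 h)).2
    · exact Or.inl ⟨mem_subgroupOf.2 (mem_inf.2 ⟨(b * ⟨s, hsS⟩).2, hidx _ b.2 hb s hsS hsX⟩),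
        fun h => hb (mem_inf.1 (mem_subgroupOf.1 h)).2⟩
  have hSodd : Odd (S : Subgroup G).index := Nat.odd_iff.2 (Nat.two_dvd_ne_zero.1 S.not_dvd_index)
  set K : Subgroup G := ⨅ M : {M : Subgroup G // M.Normal ∧ M.index = 2}, M.1 with hK
  haveI hKn : K.Normal := Subgroup.normal_iInf_normal fun M => M.2.1
  have hKS : (S : Subgroup G) ⊓ K ≤ X := by
    intro a ha
    by_contra haX
    obtain ⟨haS, haK⟩ := mem_inf.1 ha
    rcases CfsgLib.ThompsonTransfer.thompson_transfer (S : Subgroup G) Q hSodd hrel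
      (CfsgLib.Invol.mul_self_eq_one (P.outside S hz hzc haS haX).1) with ⟨M, hM, hM2, haM⟩ | ⟨b, hb⟩
    · exact haM (mem_iInf.1 haK ⟨M, hM, hM2⟩)
    · exact hfus a haS haX b hb
  have hK1 : K ≠ ⊥ := by
    intro e
    refine hs.not_solvable ?_
    have hsq : ∀ a : G, a * a = 1 := fun a => by
      rw [← mem_bot, ← e, hK, mem_iInf]
      exact fun M => mul_self_mem_of_index_two M.2.2 a
    exact Group.isSolvable_of_comm fun a b => by
      rw [← inv_eq_of_mul_eq_one_right (hsq (a * b)), mul_inv_rev, inv_eq_of_mul_eq_one_right (hsq a),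
        inv_eq_of_mul_eq_one_right (hsq b)]
  haveI : Nontrivial K := (nontrivial_iff_ne_bot K).2 hK1
  have hsK : Semi K := hs.subgroup K
  have hKX : ∀ h : G, h ≠ 1 → ¬ K ≤ P.comp h := fun h hh => hs.not_le hKn hK1 (hnil h hh)
  set PK := P.restrict K hKX
  have hnilK : PK.Nilp := fun k hk => by
    rw [P.comp_restrict hKX]
    exact (Group.isNilpotent_congr (equivMapOfInjective _ K.subtype K.subtype_injective)).mpr
      (CfsgLib.Comp.isNilpotent_of_le (map_comap_le K.subtype (P.comp k))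
        (hnil k fun e => hk (Subtype.ext e)))
  -- a Sylow subgroup of `K` inside the component
  obtain ⟨T₀⟩ := (inferInstance : Nonempty (Sylow 2 K))
  obtain ⟨R, hR⟩ := (T₀.2.map K.subtype).exists_le_sylow
  obtain ⟨a, ha⟩ := MulAction.exists_smul_eq G R S
  set T : Sylow 2 K := (MulAut.conjNormal a : MulAut K) • T₀
  have hTS : ∀ t ∈ (T : Subgroup K), (t : G) ∈ (S : Subgroup G) := by
    intro t ht
    rw [Sylow.pointwise_smul_def] at ht
    obtain ⟨t₀, ht₀, rfl⟩ := ht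
    rw [← ha, Sylow.smul_def, Sylow.pointwise_smul_def]
    refine ⟨t₀, hR (mem_map_of_mem _ ht₀), ?_⟩
    show a * (t₀ : G) * a⁻¹ = ((MulAut.conjNormal a t₀ : K) : G)
    rw [MulAut.conjNormal_apply]
  obtain ⟨z₀, hz₀⟩ := exists_prime_orderOf_dvd_card' (G := (T : Subgroup K)) 2
    (T.2.card_eq_or_dvd.resolve_left fun e => T.ne_bot_of_dvd_card hsK.two_dvd (card_eq_one.1 e))
  have hz₀2 : orderOf ((z₀ : K) : G) = 2 := by rw [Subgroup.orderOf_coe, Subgroup.orderOf_coe, hz₀]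
  have hz₀1 := CfsgLib.Invol.ne_one hz₀2
  have hz₀X : ((z₀ : K) : G) ∈ X := hKS (mem_inf.2 ⟨hTS _ z₀.2, (z₀ : K).2⟩)
  have hz₀1' : (z₀ : K) ≠ 1 := fun e => hz₀1 (by rw [e]; rfl)
  have hcompK : PK.comp z₀ = X.subgroupOf K := by
    rw [P.comp_restrict hKX, P.eq_of_mem z _ hz1 hz₀1 hz₀X]
  have hTX : (T : Subgroup K) ≤ PK.comp z₀ := fun t ht => by
    rw [hcompK, mem_subgroupOf]; exact hKS (mem_inf.2 ⟨hTS t ht, t.2⟩)
  have hkc : ∀ x b : G, x ∈ X → x ∈ K → x ≠ 1 → b ∈ K → Commute x b → b ∈ X := by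
    intro x b hx hxK hx1 hbK hc
    have := PK.kcent hnilK hsK T hz₀1' hTX (x := ⟨x, hxK⟩) (b := ⟨b, hbK⟩)
      (hcompK ▸ mem_subgroupOf.2 hx) (fun e => hx1 (congrArg Subtype.val e)) (Subtype.ext hc.eq)
    rw [hcompK] at this
    exact mem_subgroupOf.1 this
  -- an element of prime order permuting a coset
  obtain ⟨d₀, hd₀N, hd₀X⟩ := SetLike.exists_of_lt
    (lt_of_le_of_ne le_normalizer (PK.normalizer_ne hnilK hsK T hz₀1' hTX).symm)
  have hd₀1 : d₀ ≠ 1 := fun e => hd₀X (e ▸ one_mem _)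
  obtain ⟨q, hq, hqd⟩ := Nat.exists_prime_and_dvd (mt orderOf_eq_one_iff.1 hd₀1)
  haveI := Fact.mk hq
  set d := d₀ ^ (orderOf d₀ / q)
  have hdo : orderOf d = q := orderOf_pow_orderOf_div (orderOf_pos d₀).ne' hqd
  have hd1 : d ≠ 1 := fun e => hq.ne_one (by rw [← hdo, e, orderOf_one])
  have hdX : d ∉ PK.comp z₀ := fun h => hd1 (PK.pow_eq_one_of_mem hz₀1' hd₀X h)
  have hdN : d ∈ normalizer (PK.comp z₀ : Set K) := pow_mem hd₀N _
  have hq2 : q ≠ 2 := fun e => hdX (PK.invol_mem_comp hnilK hsK T hz₀1' hTX hdN (hdo.trans e))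
  have hdG : (d : G) ∉ X := fun h => hdX (hcompK ▸ mem_subgroupOf.2 h)
  have hdGN : (d : G) ∈ normalizer (X : Set G) := by
    refine P.mem_normalizer hz1 hz₀X hz₀1 ?_
    have h := (Subgroup.mem_normalizer_iff.1 hdN (z₀ : K)).1 (PK.mem _ hz₀1')
    rw [hcompK] at h
    exact mem_subgroupOf.1 h
  have hinv := (P.outside S hz hzc hsS hsX).2
  have hs2 := (P.outside S hz hzc hsS hsX).1
  set e₁ := (d : G) * s * (d : G)⁻¹ * s⁻¹ with he₁
  have he₁K : e₁ ∈ K := by
    rw [he₁, mul_assoc (d : G) s, mul_assoc (d : G) (s * (d : G)⁻¹)]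
    exact mul_mem d.2 (hKn.conj_mem _ (inv_mem d.2) s)
  have he₁X : e₁ ∈ X := by
    refine hkc _ e₁ hz₀X (z₀ : K).2 hz₀1 he₁K ?_
    set x := ((z₀ : K) : G)
    have hdx : (d : G)⁻¹ * x * d ∈ X := (Subgroup.mem_normalizer_iff''.1 hdGN x).1 hz₀X
    have h1 : s⁻¹ * x * s = x⁻¹ := by
      have := hinv x hz₀X
      rw [CfsgLib.Invol.inv_eq_self hs2] at this ⊢
      exact this
    have h2 : (d : G) * s * (d : G)⁻¹ * x * ((d : G) * s * (d : G)⁻¹)⁻¹ = x⁻¹ := by
      calc (d : G) * s * (d : G)⁻¹ * x * ((d : G) * s * (d : G)⁻¹)⁻¹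
          = (d : G) * (s * ((d : G)⁻¹ * x * d) * s⁻¹) * (d : G)⁻¹ := by group
        _ = x⁻¹ := by rw [hinv _ hdx]; group
    show x * e₁ = e₁ * x
    have h3 : e₁ * x * e₁⁻¹ = x := by
      calc e₁ * x * e₁⁻¹
          = (d : G) * s * (d : G)⁻¹ * (s⁻¹ * x * s) * ((d : G) * s * (d : G)⁻¹)⁻¹ := by rw [he₁]; group
        _ = ((d : G) * s * (d : G)⁻¹ * x * ((d : G) * s * (d : G)⁻¹)⁻¹)⁻¹ := by rw [h1]; group
        _ = x := by rw [h2, inv_inv]
    exact (mul_inv_eq_iff_eq_mul.1 h3).symm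
  let CS := {e : G // e * s⁻¹ ∈ X ⊓ K}
  have hperm : ∀ v ∈ zpowers (d : G), ∀ e : CS, v * (e : G) * v⁻¹ * s⁻¹ ∈ X ⊓ K := by
    intro v hv e
    obtain ⟨k, rfl⟩ := (mem_powers_iff_mem_zpowers (x := (d : G))).2 hv
    induction k with
    | zero => simpa using e.2
    | succ k ih =>
      have h1 := ih (Subgroup.npow_mem_zpowers _ k)
      set y := (d : G) ^ k * (e : G) * ((d : G) ^ k)⁻¹ * s⁻¹ with hy
      show (d : G) ^ (k + 1) * (e : G) * ((d : G) ^ (k + 1))⁻¹ * s⁻¹ ∈ X ⊓ K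
      rw [show (d : G) ^ (k + 1) * (e : G) * ((d : G) ^ (k + 1))⁻¹ * s⁻¹ = (d : G) * y * (d : G)⁻¹ * e₁ by
        rw [hy, he₁, pow_succ']; group]
      exact mem_inf.2 ⟨mul_mem ((Subgroup.mem_normalizer_iff.1 hdGN y).1 (mem_inf.1 h1).1) he₁X,
        mul_mem (hKn.conj_mem y (mem_inf.1 h1).2 _) he₁K⟩
  letI : MulAction (zpowers (d : G)) CS :=
    { smul := fun v e => ⟨(v : G) * e * (v : G)⁻¹, hperm v v.2 e⟩
      one_smul := fun e => Subtype.ext (by show (1 : G) * _ * (1 : G)⁻¹ = _; simp)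
      mul_smul := fun v v' e => Subtype.ext (by
        show ((v * v' : zpowers (d : G)) : G) * _ * ((v * v' : zpowers (d : G)) : G)⁻¹ = _
        simp [HSMul.hSMul, mul_assoc]) }
  have hdq : IsPGroup q (zpowers (d : G)) :=
    IsPGroup.of_card (n := 1) (by rw [Nat.card_zpowers, Subgroup.orderOf_coe, hdo, pow_one])
  have hndvd : ¬ q ∣ Nat.card CS := by
    intro hdvd
    let e' : CS ≃ PK.comp z₀ :=
      { toFun := fun e => ⟨⟨(e : G) * s⁻¹, (mem_inf.1 e.2).2⟩, hcompK ▸ mem_subgroupOf.2 (mem_inf.1 e.2).1⟩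
        invFun := fun x => ⟨((x : K) : G) * s, by
          rw [mul_inv_cancel_right]
          exact mem_inf.2 ⟨mem_subgroupOf.1 (le_of_eq hcompK x.2), (x : K).2⟩⟩
        left_inv := fun e => Subtype.ext (inv_mul_cancel_right _ _)
        right_inv := fun x => Subtype.ext (Subtype.ext (mul_inv_cancel_right _ _)) }
    rw [Nat.card_congr e'] at hdvd
    obtain ⟨x, hx, hx1, hxd⟩ := PK.exists_commute_mem hdN ⟨1, by rw [pow_one, ← hdo, pow_orderOf_eq_one]⟩
      hdvd (hnilK _ hz₀1')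
    exact hdX (PK.kcent hnilK hsK T hz₀1' hTX hx hx1 hxd)
  obtain ⟨e, he⟩ : (MulAction.fixedPoints (zpowers (d : G)) CS).Nonempty := by
    refine hdq.nonempty_fixed_point_of_prime_not_dvd_card CS hndvd
  have hec : Commute (d : G) e := mul_inv_eq_iff_eq_mul.1
    (congrArg Subtype.val (he ⟨d, mem_zpowers _⟩))
  -- the involution `e` inverts the component
  set y := (e : G) * s⁻¹ with hy
  have hyX : y ∈ X := (mem_inf.1 e.2).1
  have hey : (e : G) = y * s := by rw [hy, inv_mul_cancel_right]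
  have heX : (e : G) ∉ X := fun h => hsX (by rw [hey] at h; exact (Subgroup.mul_mem_cancel_left _ hyX).1 h)
  obtain ⟨he2, heinv⟩ := P.inverts hz1 (a := (e : G))
    (by rw [hey]; exact mul_mem (le_normalizer hyX) (P.sylow_le_normalizer S hz hzc hsS)) heX (by
      rw [show (e : G) * e = y * (s * y * s⁻¹) * (s * s) by rw [hey]; group, hinv y hyX, mul_inv_cancel,
        CfsgLib.Invol.mul_self_eq_one hs2, one_mul]
      exact one_mem _)
  have he1 := CfsgLib.Invol.ne_one he2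
  have hdY : (d : G) ∈ P.comp e := P.mem_of_commute he1 (fun h => hd1 (Subtype.ext h)) hec.symm
    (by rw [Subgroup.orderOf_coe, hdo, he2]; exact hq2)
  set x := ((z₀ : K) : G)
  have hxe : Commute x e := by
    have := heinv x hz₀X
    rw [CfsgLib.Invol.inv_eq_self hz₀2] at this
    exact (mul_inv_eq_iff_eq_mul.1 this).symm
  have hxN := P.normalizer_of_commute he1 (P.mem _ he1) he1 hxe
  have hc1 : x * d * x⁻¹ * (d : G)⁻¹ = 1 := by
    by_contra hne
    have h1 : x * d * x⁻¹ * (d : G)⁻¹ ∈ P.comp e :=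
      mul_mem ((Subgroup.mem_normalizer_iff.1 hxN _).1 hdY) (inv_mem hdY)
    have h2 : x * d * x⁻¹ * (d : G)⁻¹ ∈ X := by
      rw [mul_assoc x (d : G), mul_assoc x ((d : G) * x⁻¹)]
      exact mul_mem hz₀X ((Subgroup.mem_normalizer_iff.1 hdGN _).1 (inv_mem hz₀X))
    have := (P.eq_of_mem _ _ he1 hne h1).symm.trans (P.eq_of_mem z _ hz1 hne h2)
    exact heX (this.le (P.mem _ he1))
  rw [mul_inv_eq_one, mul_inv_eq_iff_eq_mul] at hc1
  exact hdG (hkc x d hz₀X (z₀ : K).2 hz₀1 d.2 hc1)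

/-- The centraliser of `z` consists of two cosets of the component. -/
theorem centralizer_cases (hS : ¬ (S : Subgroup G) ≤ P.comp z)
    (hidx : ∀ a ∈ (S : Subgroup G), a ∉ P.comp z → ∀ b ∈ (S : Subgroup G), b ∉ P.comp z →
      a * b ∈ P.comp z)
    (huniq : ∀ w ∈ P.comp z, w * w = 1 → w ≠ 1 → w = z) {s g : G} (hs : s ∈ (S : Subgroup G))
    (hsX : s ∉ P.comp z) (hg : Commute g z) (hgX : g ∉ P.comp z) : g * s ∈ P.comp z := by
  by_contra hgs
  haveI : Fact (Nat.Prime 2) := ⟨Nat.prime_two⟩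
  have hz1 := CfsgLib.Invol.ne_one hz
  obtain ⟨hs2, hsinv⟩ := P.outside S hz hzc hs hsX
  have hout : ∀ a : G, Commute a z → a ∉ P.comp z → orderOf a = 2 ∧ ∀ x ∈ P.comp z, a * x * a⁻¹ = x⁻¹ := by
    intro a ha haX
    have ho := (P.orderOf_eq_of_commute hz1 (P.mem z hz1) hz1 haX ha.symm).2
    rw [hz] at ho
    exact P.inverts hz1 (P.normalizer_of_commute hz1 (P.mem z hz1) hz1 ha) haX
      (by rw [CfsgLib.Invol.mul_self_eq_one ho]; exact one_mem _)
  have hexp : ∀ x ∈ P.comp z, x * x = 1 := by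
    intro x hx
    have h1 := (hout (g * s) (hg.mul_left (hzc s hs)) hgs).2 x hx
    rw [show g * s * x * (g * s)⁻¹ = g * (s * x * s⁻¹) * g⁻¹ by group, hsinv x hx,
      (hout g hg hgX).2 _ (inv_mem hx), inv_inv] at h1
    exact eq_inv_iff_mul_eq_one.1 h1
  have hall : ∀ a : G, Commute a z → a * a = 1 := fun a ha => by
    by_cases haX : a ∈ P.comp z
    · exact hexp a haX
    · exact CfsgLib.Invol.mul_self_eq_one (hout a ha haX).1
  have hcomm : ∀ a b : G, Commute a z → Commute b z → a * b = b * a := fun a b ha hb => by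
    rw [← inv_eq_of_mul_eq_one_right (hall (a * b) (ha.mul_left hb)), mul_inv_rev,
      inv_eq_of_mul_eq_one_right (hall a ha), inv_eq_of_mul_eq_one_right (hall b hb)]
  have hle : (S : Subgroup G) ≤ normalizer (zpowers g : Set G) := fun a ha =>
    Subgroup.centralizer_le_normalizer _ (mem_centralizer_iff.2 fun b hb => by
      obtain ⟨k, rfl⟩ := mem_zpowers_iff.1 hb
      exact hcomm _ _ (hg.zpow_left k) (hzc a ha))
  have hgp : IsPGroup 2 (zpowers g) := IsPGroup.of_card (n := 1)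
    (by rw [Nat.card_zpowers, (hout g hg hgX).1, pow_one])
  have hgS : g ∈ (S : Subgroup G) :=
    S.3 (S.2.to_sup_of_normal_right' hgp hle) le_sup_left ▸ mem_sup_right (mem_zpowers g)
  exact hgs (hidx g hgS hgX s hs hsX)

theorem isCyclic_inf (hS : ¬ (S : Subgroup G) ≤ P.comp z)
    (huniq : ∀ w ∈ P.comp z, w * w = 1 → w ≠ 1 → w = z) :
    IsCyclic ((S : Subgroup G) ⊓ P.comp z : Subgroup G) := by
  haveI : Fact (Nat.Prime 2) := ⟨Nat.prime_two⟩
  have h1 : IsPGroup 2 ((S : Subgroup G) ⊓ P.comp z : Subgroup G) := S.2.to_le inf_le_left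
  rcases CfsgLib.UniqueInvol.cyclic_or_quaternion h1 (fun x y hx hy => by
    have hxz : (x : G) = z := huniq _ (mem_inf.1 x.2).2
      (CfsgLib.Invol.mul_self_eq_one (by rw [Subgroup.orderOf_coe, hx]))
      (CfsgLib.Invol.ne_one (by rw [Subgroup.orderOf_coe, hx]))
    have hyz : (y : G) = z := huniq _ (mem_inf.1 y.2).2
      (CfsgLib.Invol.mul_self_eq_one (by rw [Subgroup.orderOf_coe, hy]))
      (CfsgLib.Invol.ne_one (by rw [Subgroup.orderOf_coe, hy]))
    rw [show y = x from Subtype.ext (hyz.trans hxz.symm)]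
    exact mem_zpowers x) with h | ⟨-, n, hn, ⟨e⟩⟩
  · exact h
  · exfalso
    refine quaternion_not_comm hn fun a b => e.symm.injective ?_
    rw [map_mul, map_mul]
    exact Subtype.ext (P.comp_comm S hz hzc hS _ (mem_inf.1 (e.symm a).2).2 _ (mem_inf.1 (e.symm b).2).2)

/-- The dihedral case for simple groups. -/
theorem psl2_of_dihedral [IsSimpleGroup G] (hS : ¬ (S : Subgroup G) ≤ P.comp z)
    (hidx : ∀ a ∈ (S : Subgroup G), a ∉ P.comp z → ∀ b ∈ (S : Subgroup G), b ∉ P.comp z →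
      a * b ∈ P.comp z)
    (huniq : ∀ w ∈ P.comp z, w * w = 1 → w ≠ 1 → w = z) :
    ∃ (F : Type) (_ : Field F) (_ : Fintype F), Odd (Fintype.card F) ∧
      Nonempty (G ≃* Matrix.ProjectiveSpecialLinearGroup (Fin 2) F) := by
  classical
  haveI : Fact (Nat.Prime 2) := ⟨Nat.prime_two⟩
  have hz1 := CfsgLib.Invol.ne_one hz
  have hzX := P.mem z hz1
  set X := P.comp z
  obtain ⟨s, hsS, hsX⟩ := SetLike.not_le_iff_exists.1 hS
  obtain ⟨hs2, hsinv⟩ := P.outside S hz hzc hsS hsX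
  have hcomm := P.comp_comm S hz hzc hS
  set Q : Subgroup G := (S : Subgroup G) ⊓ X with hQ
  haveI hcyc : IsCyclic Q := P.isCyclic_inf S hz hzS hzc hS huniq
  obtain ⟨r, hr⟩ := IsCyclic.exists_generator (α := Q)
  obtain ⟨hrS, hrX⟩ := mem_inf.1 r.2
  have hsrX : s * r ∉ X := fun h => hsX ((Subgroup.mul_mem_cancel_right _ hrX).1 h)
  have hsr2 : orderOf (s * r) = 2 := (P.outside S hz hzc (mul_mem hsS hrS) hsrX).1
  have hsne : s ≠ s * r := fun e => by
    have h1 : (r : G) = 1 := mul_left_cancel (a := s) (by rw [mul_one]; exact e.symm)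
    have h2 := hr ⟨z, mem_inf.2 ⟨hzS, hzX⟩⟩
    rw [show r = 1 from Subtype.ext h1, zpowers_one_eq_bot, mem_bot] at h2
    exact hz1 (congrArg Subtype.val h2)
  have hsr : s * (s * r) = r := by rw [← mul_assoc, CfsgLib.Invol.mul_self_eq_one hs2, one_mul]
  have hgen : closure ({s, s * r} : Set G) = (S : Subgroup G) := by
    refine le_antisymm ((closure_le _).2 (Set.insert_subset hsS (Set.singleton_subset_iff.2 (mul_mem hsS hrS)))) ?_
    have hQle : ∀ a ∈ Q, a ∈ closure ({s, s * r} : Set G) := by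
      intro a ha
      obtain ⟨k, hk⟩ := mem_zpowers_iff.1 (hr ⟨a, ha⟩)
      have h1 : (r : G) ∈ closure ({s, s * r} : Set G) := by
        have h2 := mul_mem (Subgroup.subset_closure (Set.mem_insert s ({s * (r : G)} : Set G)))
          (Subgroup.subset_closure (Set.mem_insert_of_mem s (Set.mem_singleton (s * (r : G)))))
        rwa [hsr] at h2
      rw [show a = (r : G) ^ k from (congrArg Subtype.val hk).symm]
      exact zpow_mem h1 k
    intro a ha
    by_cases haX : a ∈ X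
    · exact hQle a (mem_inf.2 ⟨ha, haX⟩)
    · rw [show a = a * s * s by rw [mul_assoc, CfsgLib.Invol.mul_self_eq_one hs2, mul_one]]
      exact mul_mem (hQle _ (mem_inf.2 ⟨mul_mem ha hsS, hidx a ha haX s hsS hsX⟩))
        (Subgroup.subset_closure (Set.mem_insert _ _))
  have hn : 2 ≤ orderOf (s * (s * r)) := by
    rw [hsr]
    by_contra h
    have h1 : orderOf (r : G) = 1 := by have := orderOf_pos (r : G); omega
    exact hsne (by rw [orderOf_eq_one_iff.1 h1, mul_one])
  obtain ⟨eD⟩ := CfsgLib.Invol.nonempty_dihedral_equiv hs2 hsr2 hsne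
  set C := centralizer ({z} : Set G)
  have hXC : X ≤ C := fun x hx => mem_centralizer_singleton_iff.2 (hcomm x hx z hzX)
  set O := (Cfsg.oddCore C).map C.subtype with hO
  have hOX : ∀ y ∈ O, y ∈ X ∧ Odd (orderOf y) := by
    rintro _ ⟨y, hy, rfl⟩
    have hyo : Odd (orderOf (y : G)) := by
      rw [Subgroup.orderOf_coe]
      refine (Nat.coprime_two_left.1 (Nat.Coprime.coprime_dvd_right ?_
        (CfsgLib.Solvable.coprime_card_pPrimeCore (G := C) 2).symm))
      exact Subgroup.orderOf_dvd_natCard _ hy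
    refine ⟨by_contra fun hyX => ?_, hyo⟩
    have ho := (P.orderOf_eq_of_commute hz1 hzX hz1 hyX (mem_centralizer_singleton_iff.1 y.2).symm).2
    rw [show orderOf (y : G) = 2 from ho.trans hz] at hyo
    exact (by decide : ¬ Odd 2) hyo
  have hnorm : ∀ Y : Subgroup G, Y ≤ O → Y ≠ ⊥ → normalizer (Y : Set G) ≤ C := by
    intro Y hY hY1 a ha
    obtain ⟨y, hy, hy1⟩ := (bot_or_exists_ne_one _).resolve_left hY1
    have haN : a ∈ normalizer (X : Set G) := P.mem_normalizer hz1 (hOX y (hY hy)).1 hy1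
      (hOX _ (hY ((Subgroup.mem_normalizer_iff.1 ha y).1 hy))).1
    have h1 := huniq (a * z * a⁻¹) ((Subgroup.mem_normalizer_iff.1 haN z).1 hzX)
      (by rw [show a * z * a⁻¹ * (a * z * a⁻¹) = a * (z * z) * a⁻¹ by group,
        CfsgLib.Invol.mul_self_eq_one hz]; group) (conj_ne_one hz1)
    exact mem_centralizer_singleton_iff.2 (mul_inv_eq_iff_eq_mul.1 h1)
  have hinvO : ∀ a ∈ (S : Subgroup G), a ∉ X → ∀ y ∈ O, a * y * a⁻¹ = y⁻¹ := fun a ha haX y hy =>
    (P.outside S hz hzc ha haX).2 y (hOX y hy).1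
  have hcentO : ∀ a ∈ Q, a ∈ centralizer (O : Set G) := fun a ha =>
    mem_centralizer_iff.2 fun y hy => hcomm y (hOX y hy).1 a (mem_inf.1 ha).2
  refine Cfsg.Agent.S0508.result S (orderOf (s * (s * r))) hn
    ⟨(MulEquiv.subgroupCongr hgen.symm).trans eD⟩ z hz hzS (fun a ha => (hzc a ha).eq) O hO ?_ ?_ hnorm
  · intro hO1
    obtain ⟨y, hy, hy1⟩ := (bot_or_exists_ne_one _).resolve_left hO1
    have hQeq : (S : Subgroup G) ⊓ centralizer (O : Set G) = Q := by
      refine le_antisymm (fun a ha => mem_inf.2 ⟨(mem_inf.1 ha).1, by_contra fun haX => ?_⟩)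
        (fun a ha => mem_inf.2 ⟨(mem_inf.1 ha).1, hcentO a ha⟩)
      have h1 := hinvO a (mem_inf.1 ha).1 haX y hy
      rw [← (mem_centralizer_iff.1 (mem_inf.1 ha).2 y hy), mul_inv_cancel_right] at h1
      exact hy1 (conj_invol_ne_one (hOX y hy).2 (pow_orderOf_eq_one y) (eq_inv_iff_mul_eq_one.1 h1))
    rw [hQeq]
    refine ⟨hcyc, (Subgroup.index_eq_two_iff).2 ⟨⟨s, hsS⟩, fun b => ?_⟩⟩
    by_cases hb : (b : G) ∈ X
    · refine Or.inr ⟨mem_subgroupOf.2 (mem_inf.2 ⟨b.2, hb⟩), fun h => hsX ?_⟩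
      exact (Subgroup.mul_mem_cancel_left _ hb).1 (mem_inf.1 (mem_subgroupOf.1 h)).2
    · exact Or.inl ⟨mem_subgroupOf.2 (mem_inf.2 ⟨(b * ⟨s, hsS⟩).2, hidx _ b.2 hb s hsS hsX⟩),
        fun h => hb (mem_inf.1 (mem_subgroupOf.1 h)).2⟩
  · intro a ha haC y hy
    exact hinvO a ha (fun haX => haC (hcentO a (mem_inf.2 ⟨ha, haX⟩))) y hy

end Part

end CfsgLib.Partition
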