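import Cfsg.Agent.Partition.NormalComp
import Cfsg.Agent.Partition.AbelianNormal
import Cfsg.Agent.Partition.SylowOutside
import Cfsg.Agent.Partition.PGL

/-!
# Groups with a nontrivial partition: the classification

A group without nontrivial solvable normal subgroups whose components are nilpotent is a linear
fractional group or a Suzuki group; together with the solvable cases this gives the classification
of the groups with a nontrivial partition.
-/

set_option autoImplicit false
set_option linter.unusedSectionVars false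
set_option linter.style.haveILetI false

namespace CfsgLib.Partition

open Subgroup
open scoped Pointwise

universe u

variable {G : Type u} [Group G] [Finite G]

theorem isNilpotent_of_sq_eq_one {H : Subgroup G} (h : ∀ a ∈ H, a * a = 1) : Group.IsNilpotent H := by
  haveI : Fact (Nat.Prime 2) := ⟨Nat.prime_two⟩
  refine IsPGroup.isNilpotent (p := 2) fun a => ⟨1, Subtype.ext ?_⟩
  rw [pow_one, SubgroupClass.coe_pow, pow_two]
  exact h a a.2

/-- A Sylow 2-subgroup of a normal subgroup inside a given one. -/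
theorem exists_sylow_le (S : Sylow 2 G) (K : Subgroup G) [hK : K.Normal] :
    ∃ T : Sylow 2 K, ∀ t : K, t ∈ (T : Subgroup K) ↔ (t : G) ∈ (S : Subgroup G) := by
  haveI : Fact (Nat.Prime 2) := ⟨Nat.prime_two⟩
  obtain ⟨T₀⟩ := (inferInstance : Nonempty (Sylow 2 K))
  obtain ⟨R, hR⟩ := (T₀.2.map K.subtype).exists_le_sylow
  obtain ⟨a, ha⟩ := MulAction.exists_smul_eq G R S
  set T : Sylow 2 K := (MulAut.conjNormal a : MulAut K) • T₀ with hT
  have hTS : ∀ t ∈ (T : Subgroup K), (t : G) ∈ (S : Subgroup G) := by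
    intro t ht
    rw [hT, Sylow.pointwise_smul_def] at ht
    obtain ⟨t₀, ht₀, rfl⟩ := ht
    rw [← ha, Sylow.smul_def, Sylow.pointwise_smul_def]
    refine ⟨t₀, hR (mem_map_of_mem _ ht₀), ?_⟩
    show a * (t₀ : G) * a⁻¹ = ((MulAut.conjNormal a t₀ : K) : G)
    rw [MulAut.conjNormal_apply]
  refine ⟨T, fun t => ⟨hTS t, fun ht => ?_⟩⟩
  have h := T.3 (S.2.comap_subtype (K := K)) (fun x hx => mem_comap.2 (hTS x hx))
  rw [← h]
  exact mem_comap.2 ht

theorem Semi.no_invol_sq (hs : Semi G) [Nontrivial G] : ∃ a : G, a * a ≠ 1 := by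
  by_contra h
  push Not at h
  exact hs.not_solvable (Group.isSolvable_of_comm fun a b => by
    rw [← inv_eq_of_mul_eq_one_right (h (a * b)), mul_inv_rev, inv_eq_of_mul_eq_one_right (h a),
      inv_eq_of_mul_eq_one_right (h b)])

namespace Part

variable (P : Part G) (hnil : P.Nilp) (hs : Semi G)

include hnil hs

theorem restrict_nilp {K : Subgroup G} (hKX : ∀ h : G, h ≠ 1 → ¬ K ≤ P.comp h) :
    (P.restrict K hKX).Nilp := fun k hk => by
  rw [P.comp_restrict hKX]
  exact (Group.isNilpotent_congr (equivMapOfInjective _ K.subtype K.subtype_injective)).mpr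
    (CfsgLib.Comp.isNilpotent_of_le (map_comap_le K.subtype (P.comp k))
      (hnil k fun e => hk (Subtype.ext e)))

/-- Two nontrivial normal subgroups do not centralise each other. -/
theorem no_commuting {A B : Subgroup G} [A.Normal] [hB : B.Normal] (hA1 : A ≠ ⊥) (hB1 : B ≠ ⊥)
    (hc : ∀ a ∈ A, ∀ b ∈ B, Commute a b) : False := by
  haveI : Fact (Nat.Prime 2) := ⟨Nat.prime_two⟩
  haveI : Nontrivial A := (nontrivial_iff_ne_bot A).2 hA1
  haveI : Nontrivial B := (nontrivial_iff_ne_bot B).2 hB1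
  obtain ⟨p, hp, hp2, hpd⟩ : ∃ p, p.Prime ∧ p ≠ 2 ∧ p ∣ Nat.card A := by
    by_contra h
    push Not at h
    have hAp : IsPGroup 2 A := IsPGroup.of_card (n := (Nat.card A).primeFactorsList.length)
      (Nat.eq_prime_pow_of_unique_prime_dvd Nat.card_pos.ne' fun {d} hd hdd =>
        by_contra fun hne => h d hd hne hdd)
    exact hA1 (hs A inferInstance (solvable_of_nilpotent hAp.isNilpotent))
  haveI := Fact.mk hp
  obtain ⟨a, ha⟩ := exists_prime_orderOf_dvd_card' (G := A) p hpd
  rw [← Subgroup.orderOf_coe] at ha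
  have ha1 : (a : G) ≠ 1 := fun e => hp.ne_one (by rw [← ha, e, orderOf_one])
  set I := {b : G | b ∈ B ∧ orderOf b = 2}
  haveI hIn : (closure I).Normal := by
    refine ⟨fun x hx g => ?_⟩
    have hle : closure I ≤ (closure I).comap (MulAut.conj g).toMonoidHom := by
      refine (closure_le _).2 fun b hb => mem_comap.2 (Subgroup.subset_closure ?_)
      exact ⟨hB.conj_mem b hb.1 g, (CfsgLib.Invol.orderOf_conj_eq g b).trans hb.2⟩
    exact mem_comap.1 (hle hx)
  obtain ⟨b, hb⟩ := exists_prime_orderOf_dvd_card' (G := B) 2 (hs.subgroup B).two_dvd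
  rw [← Subgroup.orderOf_coe] at hb
  refine hs.not_le hIn (fun e => CfsgLib.Invol.ne_one hb ?_) (hnil a ha1) ((closure_le _).2 ?_)
  · have h1 : (b : G) ∈ closure I := Subgroup.subset_closure ⟨b.2, hb⟩
    rwa [e, mem_bot] at h1
  · intro c hc'
    exact P.mem_of_commute ha1 (CfsgLib.Invol.ne_one hc'.2) (hc a a.2 c hc'.1)
      (by rw [hc'.2, ha]; exact hp2.symm)

/-- A component containing a Sylow 2-subgroup contains several involutions of it. -/
theorem exists_two_invol [Nontrivial G] (T : Sylow 2 G) {g z : G} (hg : g ≠ 1)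
    (hT : (T : Subgroup G) ≤ P.comp g) (hz : orderOf z = 2) (hzX : z ∈ P.comp g) :
    ∃ t ∈ P.comp g, orderOf t = 2 ∧ t ≠ z := by
  obtain ⟨b, hbN, hbX⟩ := SetLike.exists_of_lt
    (lt_of_le_of_ne le_normalizer (P.normalizer_ne hnil hs T hg hT).symm)
  refine ⟨b * z * b⁻¹, (Subgroup.mem_normalizer_iff.1 hbN z).1 hzX,
    by rw [CfsgLib.Invol.orderOf_conj_eq, hz], fun e => hbX ?_⟩
  exact P.kcent hnil hs T hg hT hzX (CfsgLib.Invol.ne_one hz) (mul_inv_eq_iff_eq_mul.1 e).symm

/-- The dihedral case. -/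
theorem dihedral_case [Nontrivial G] (S : Sylow 2 G) {z : G} (hz : orderOf z = 2)
    (hzS : z ∈ (S : Subgroup G)) (hzc : ∀ s ∈ (S : Subgroup G), Commute s z)
    (hS : ¬ (S : Subgroup G) ≤ P.comp z)
    (hidx : ∀ a ∈ (S : Subgroup G), a ∉ P.comp z → ∀ b ∈ (S : Subgroup G), b ∉ P.comp z →
      a * b ∈ P.comp z) :
    (∃ (F : Type) (_ : Field F) (_ : Fintype F), 4 ≤ Fintype.card F ∧
      Nonempty (G ≃* Matrix.ProjectiveSpecialLinearGroup (Fin 2) F)) ∨
    (∃ (F : Type) (_ : Field F) (_ : Fintype F), 5 ≤ Fintype.card F ∧ Odd (Fintype.card F) ∧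
      Nonempty (G ≃* (GL (Fin 2) F ⧸ center (GL (Fin 2) F)))) := by
  classical
  haveI : Fact (Nat.Prime 2) := ⟨Nat.prime_two⟩
  have hz1 := CfsgLib.Invol.ne_one hz
  have hzz := CfsgLib.Invol.mul_self_eq_one hz
  have huniq : ∀ w ∈ P.comp z, w * w = 1 → w ≠ 1 → w = z := fun w hw hw2 hw1 =>
    P.unique_invol S hz hzS hzc hnil hs hS hidx hw hw2 hw1
  have hcomm := P.comp_comm S hz hzc hS
  set X := P.comp z
  -- the minimal normal subgroup
  obtain ⟨L, hLn, hL1, -, hLmin⟩ :=
    CfsgLib.Solvable.exists_minimal_normal_le (N := (⊤ : Subgroup G)) top_ne_bot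
  haveI := hLn
  haveI : Nontrivial L := (nontrivial_iff_ne_bot L).2 hL1
  have hLX : ∀ h : G, h ≠ 1 → ¬ L ≤ P.comp h := fun h hh => hs.not_le hLn hL1 (hnil h hh)
  set PL := P.restrict L hLX with hPL
  have hnilL : PL.Nilp := P.restrict_nilp hnil hs hLX
  have hsL : Semi L := hs.subgroup L
  have hC : centralizer (L : Set G) = ⊥ := by
    by_contra hne
    haveI : (centralizer (L : Set G)).Normal := ⟨fun x hx g => mem_centralizer_iff.2 fun b hb => by
      have h := congrArg (fun t => g * t * g⁻¹) (mem_centralizer_iff.1 hx (g⁻¹ * b * g)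
        (by simpa using hLn.conj_mem b hb g⁻¹))
      simpa [mul_assoc] using h⟩
    exact P.no_commuting hnil hs hne hL1 fun a ha b hb => (mem_centralizer_iff.1 ha b hb).symm
  haveI hLsimple : IsSimpleGroup L := by
    refine ⟨fun A hA => or_iff_not_imp_left.2 fun hA1 => ?_⟩
    haveI := hA
    obtain ⟨A₀, hA₀, hA₀1, hA₀A, hA₀min⟩ := CfsgLib.Solvable.exists_minimal_normal_le (N := A) hA1
    haveI := hA₀
    have hinv : ∀ g : G, A₀ ≤ A₀.map (MulAut.conjNormal (H := L) g).toMonoidHom := by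
      intro g
      set B := A₀.map (MulAut.conjNormal (H := L) g).toMonoidHom
      haveI : B.Normal := hA₀.map _ (MulAut.conjNormal (H := L) g).surjective
      rcases hA₀min (A₀ ⊓ B) inferInstance inf_le_left with e | e
      · exfalso
        refine PL.no_commuting hnilL hsL hA₀1 (fun e' => hA₀1 ?_) fun a ha b hb =>
          Subgroup.commute_of_normal_of_disjoint A₀ B hA₀ inferInstance (disjoint_iff.2 e) a b ha hb
        exact (map_eq_bot_iff_of_injective _ (MulAut.conjNormal (H := L) g).injective).1 e'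
      · exact inf_eq_left.1 e
    have hn : (A₀.map L.subtype).Normal := by
      refine ⟨?_⟩
      rintro _ ⟨a, ha, rfl⟩ g
      obtain ⟨b, hb, hb'⟩ := hinv g⁻¹ ha
      refine ⟨b, hb, ?_⟩
      rw [← hb']
      simp [mul_assoc]
    rcases hLmin _ hn (map_subtype_le _) with e | e
    · exact absurd ((map_eq_bot_iff_of_injective _ L.subtype_injective).1 e) hA₀1
    · refine eq_top_iff.2 fun x _ => hA₀A ?_
      obtain ⟨y, hy, hy'⟩ := mem_map.1 (e.symm ▸ x.2 : (x : G) ∈ A₀.map L.subtype)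
      exact Subtype.ext hy' ▸ hy
  obtain ⟨T, hT⟩ := exists_sylow_le S L
  -- an involution of `L` outside the component
  have hpow : ∀ t ∈ (S : Subgroup G), t ∈ X → t ≠ 1 → z ∈ zpowers t := by
    intro t htS htX ht1
    obtain ⟨k, hk⟩ := IsPGroup.iff_orderOf.1 S.2 ⟨t, htS⟩
    rw [Subgroup.orderOf_mk] at hk
    have hd : 2 ∣ orderOf t := by
      rcases k with _ | k
      · exact absurd (orderOf_eq_one_iff.1 (by simpa using hk)) ht1
      · rw [hk, pow_succ]; exact dvd_mul_left _ _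
    have h2 := orderOf_pow_orderOf_div (orderOf_pos t).ne' hd
    rw [← huniq _ (pow_mem htX _) (CfsgLib.Invol.mul_self_eq_one h2) (CfsgLib.Invol.ne_one h2)]
    exact Subgroup.npow_mem_zpowers t _
  obtain ⟨t₁, ht₁⟩ := exists_prime_orderOf_dvd_card' (G := (T : Subgroup L)) 2
    (T.2.card_eq_or_dvd.resolve_left fun e => T.ne_bot_of_dvd_card hsL.two_dvd (card_eq_one.1 e))
  have ht₁o : orderOf (t₁ : L) = 2 := by rwa [Subgroup.orderOf_coe]
  have ht₁G : orderOf ((t₁ : L) : G) = 2 := by rw [Subgroup.orderOf_coe, ht₁o]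
  have ht₁1 : (t₁ : L) ≠ 1 := CfsgLib.Invol.ne_one ht₁o
  -- a second involution
  obtain ⟨t₂, ht₂T, ht₂o, ht₂ne⟩ : ∃ t ∈ (T : Subgroup L), orderOf t = 2 ∧ t ≠ (t₁ : L) := by
    by_contra hno
    push Not at hno
    have hTle : (T : Subgroup L) ≤ PL.comp t₁ := by
      intro x hx
      by_cases hx1 : x = 1
      · exact hx1 ▸ one_mem _
      obtain ⟨k, hk⟩ := IsPGroup.iff_orderOf.1 T.2 ⟨x, hx⟩
      rw [Subgroup.orderOf_mk] at hk
      have hd : 2 ∣ orderOf x := by
        rcases k with _ | k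
        · exact absurd (orderOf_eq_one_iff.1 (by simpa using hk)) hx1
        · rw [hk, pow_succ]; exact dvd_mul_left _ _
      have h2 := orderOf_pow_orderOf_div (orderOf_pos x).ne' hd
      have he := hno _ (pow_mem hx _) h2
      exact PL.mem_comm hx1 ht₁1 (he ▸ pow_mem (PL.mem x hx1) _)
    obtain ⟨t, ht, ht2, htne⟩ := PL.exists_two_invol hnilL hsL T ht₁1 hTle ht₁o (PL.mem _ ht₁1)
    have htN : ∀ a ∈ PL.comp t₁, Commute t a := fun a ha =>
      PL.invol_central hnilL hsL T ht₁1 hTle (le_normalizer ht) ht2 ha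
    have htT : t ∈ (T : Subgroup L) := by
      have hle : (T : Subgroup L) ≤ normalizer (zpowers t : Set L) := fun a ha =>
        Subgroup.centralizer_le_normalizer _ (mem_centralizer_iff.2 fun b hb => by
          obtain ⟨k, rfl⟩ := mem_zpowers_iff.1 hb
          exact ((htN a (hTle ha)).zpow_left k).eq)
      have hp : IsPGroup 2 (zpowers t) := IsPGroup.of_card (n := 1) (by rw [Nat.card_zpowers, ht2, pow_one])
      exact T.3 (T.2.to_sup_of_normal_right' hp hle) le_sup_left ▸ mem_sup_right (mem_zpowers t)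
    exact htne (hno t htT ht2)
  obtain ⟨s, hsL', hsS, hsX⟩ : ∃ s : G, s ∈ L ∧ s ∈ (S : Subgroup G) ∧ s ∉ X := by
    by_contra h
    push Not at h
    have h2 : ∀ t : L, t ∈ (T : Subgroup L) → orderOf t = 2 → (t : G) = z := fun t ht ho =>
      huniq t (h t t.2 ((hT t).1 ht))
        (CfsgLib.Invol.mul_self_eq_one (by rw [Subgroup.orderOf_coe, ho]))
        (CfsgLib.Invol.ne_one (by rw [Subgroup.orderOf_coe, ho]))
    exact ht₂ne (Subtype.ext ((h2 _ ht₂T ht₂o).trans (h2 _ t₁.2 ht₁o).symm))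
  have hzL : z ∈ L := by
    by_contra hzL
    have hout : ∀ t : L, t ∈ (T : Subgroup L) → orderOf t = 2 → (t : G) ∉ X := fun t ht ho htX =>
      hzL (huniq t htX (CfsgLib.Invol.mul_self_eq_one (by rw [Subgroup.orderOf_coe, ho]))
        (CfsgLib.Invol.ne_one (by rw [Subgroup.orderOf_coe, ho])) ▸ t.2)
    have hm : ((t₁ : L) : G) * (t₂ : G) ∈ X :=
      hidx _ ((hT _).1 t₁.2) (hout _ t₁.2 ht₁o) _ ((hT _).1 ht₂T) (hout _ ht₂T ht₂o)
    refine hzL ((zpowers_le.2 ?_) (hpow _ (mul_mem ((hT _).1 t₁.2) ((hT _).1 ht₂T)) hm ?_))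
    · exact mul_mem (t₁ : L).2 t₂.2
    · intro e
      refine ht₂ne (Subtype.ext ?_)
      rw [← inv_eq_of_mul_eq_one_right e, CfsgLib.Invol.inv_eq_self ht₁G]
  -- the simple group
  set zL : L := ⟨z, hzL⟩
  have hzLo : orderOf zL = 2 := by rw [← Subgroup.orderOf_coe]; exact hz
  have hzT : zL ∈ (T : Subgroup L) := (hT _).2 hzS
  have hzcL : ∀ t ∈ (T : Subgroup L), Commute t zL := fun t ht => Subtype.ext (hzc t ((hT t).1 ht)).eq
  have hcompL : ∀ t : L, t ∈ PL.comp zL ↔ (t : G) ∈ X := fun t => mem_subgroupOf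
  have hTX : ¬ (T : Subgroup L) ≤ PL.comp zL := fun hle =>
    hsX ((hcompL ⟨s, hsL'⟩).1 (hle ((hT _).2 hsS)))
  have hidxL : ∀ a ∈ (T : Subgroup L), a ∉ PL.comp zL → ∀ b ∈ (T : Subgroup L), b ∉ PL.comp zL →
      a * b ∈ PL.comp zL := fun a ha haX b hb hbX => (hcompL _).2
    (hidx a ((hT a).1 ha) (fun h => haX ((hcompL a).2 h)) b ((hT b).1 hb) (fun h => hbX ((hcompL b).2 h)))
  have huniqL : ∀ w ∈ PL.comp zL, w * w = 1 → w ≠ 1 → w = zL := fun w hw hw2 hw1 =>
    Subtype.ext (huniq w ((hcompL w).1 hw) (congrArg Subtype.val hw2) fun e => hw1 (Subtype.ext e))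
  obtain ⟨F, iF, iFt, hodd, ⟨e⟩⟩ := PL.psl2_of_dihedral T hzLo hzT hzcL hTX hidxL huniqL
  haveI : IsSimpleGroup (Matrix.ProjectiveSpecialLinearGroup (Fin 2) F) :=
    CfsgLib.MinimalNormal.isSimpleGroup_iff_of_mulEquiv e
  have h4 : 3 < Fintype.card F := by
    refine CfsgLib.NormCyclic.three_lt_card fun hc => ?_
    exact hsL.not_solvable (IsSimpleGroup.comm_iff_isSolvable.1 fun a b =>
      e.injective (by rw [map_mul, map_mul]; exact hc.is_comm.comm _ _))
  have hcard : 5 ≤ Fintype.card F := by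
    rcases Nat.lt_or_ge 4 (Fintype.card F) with h | h
    · exact h
    · have h' : Fintype.card F = 4 := le_antisymm h h4
      rw [h'] at hodd
      exact absurd hodd (by decide)
  -- all involutions of `L` are conjugate to `z`
  set Q := (T : Subgroup L) ⊓ PL.comp zL
  have hconj : ∀ i : L, orderOf i = 2 → IsConj zL i := by
    intro i hi
    obtain ⟨R, hR⟩ := (show IsPGroup 2 (zpowers i) from
      IsPGroup.of_card (n := 1) (by rw [Nat.card_zpowers, hi, pow_one])).exists_le_sylow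
    obtain ⟨a, ha⟩ := MulAction.exists_smul_eq L R T
    have hiT : a * i * a⁻¹ ∈ (T : Subgroup L) := by
      rw [← ha, Sylow.smul_def, Sylow.pointwise_smul_def]
      exact ⟨i, hR (mem_zpowers i), rfl⟩
    have hio : orderOf (a * i * a⁻¹) = 2 := by rw [CfsgLib.Invol.orderOf_conj_eq, hi]
    obtain ⟨b, hb⟩ : ∃ b : L, b * (a * i * a⁻¹) * b⁻¹ = zL := by
      by_cases hX : a * i * a⁻¹ ∈ PL.comp zL
      · exact ⟨1, by rw [huniqL _ hX (CfsgLib.Invol.mul_self_eq_one hio) (CfsgLib.Invol.ne_one hio)]; group⟩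
      have hrel : Q.relIndex (T : Subgroup L) = 2 := by
        refine (Subgroup.index_eq_two_iff).2 ⟨⟨_, hiT⟩, fun b => ?_⟩
        by_cases hb : (b : L) ∈ PL.comp zL
        · refine Or.inr ⟨mem_subgroupOf.2 (mem_inf.2 ⟨b.2, hb⟩), fun h => hX ?_⟩
          exact (Subgroup.mul_mem_cancel_left _ hb).1 (mem_inf.1 (mem_subgroupOf.1 h)).2
        · exact Or.inl ⟨mem_subgroupOf.2 (mem_inf.2 ⟨(b * ⟨_, hiT⟩).2, hidxL _ b.2 hb _ hiT hX⟩),
            fun h => hb (mem_inf.1 (mem_subgroupOf.1 h)).2⟩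
      rcases CfsgLib.ThompsonTransfer.thompson_transfer (T : Subgroup L) Q
        (Nat.odd_iff.2 (Nat.two_dvd_ne_zero.1 T.not_dvd_index)) hrel
        (CfsgLib.Invol.mul_self_eq_one hio) with ⟨M, hM, hM2, -⟩ | ⟨b, hb⟩
      · exfalso
        rcases hM.eq_bot_or_eq_top with rfl | rfl
        · rw [index_bot] at hM2
          exact hsL.not_solvable (solvable_of_card_two hM2)
        · rw [index_top] at hM2; omega
      · have hbo : orderOf (b * (a * i * a⁻¹) * b⁻¹) = 2 := by rw [CfsgLib.Invol.orderOf_conj_eq, hio]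
        exact ⟨b, huniqL _ (mem_inf.1 hb).2 (CfsgLib.Invol.mul_self_eq_one hbo) (CfsgLib.Invol.ne_one hbo)⟩
    exact (isConj_iff.2 ⟨b * a, by rw [← hb]; group⟩ : IsConj i zL).symm
  obtain ⟨hs2, hsinv⟩ := P.outside S hz hzc hsS hsX
  -- squares of the centraliser of `z` lie in `L`
  have hsqX : ∀ x ∈ X, x * x ∈ L := fun x hx => by
    have h1 : x * s * x⁻¹ * s⁻¹ ∈ L := mul_mem (hLn.conj_mem s hsL' x) (inv_mem hsL')
    rwa [mul_assoc x s, mul_assoc x (s * x⁻¹), hsinv _ (inv_mem hx), inv_inv] at h1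
  have hdec : ∀ g : G, ∃ l ∈ L, ∃ c : G, Commute c z ∧ g = l * c := by
    intro g
    obtain ⟨l, hl⟩ := isConj_iff.1 (hconj ⟨g * z * g⁻¹, hLn.conj_mem z hzL g⟩
      (by rw [← Subgroup.orderOf_coe]; exact (CfsgLib.Invol.orderOf_conj_eq g z).trans hz))
    have hl' : (l : G) * z * (l : G)⁻¹ = g * z * g⁻¹ := congrArg Subtype.val hl
    refine ⟨l, l.2, (l : G)⁻¹ * g, ?_, by group⟩
    show (l : G)⁻¹ * g * z = z * ((l : G)⁻¹ * g)
    calc (l : G)⁻¹ * g * z = (l : G)⁻¹ * (g * z * g⁻¹) * g := by group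
      _ = _ := by rw [← hl']; group
  have hC2 : ∀ c : G, Commute c z → c * c ∈ L := by
    intro c hc
    by_cases hcX : c ∈ X
    · exact hsqX c hcX
    have ho := (P.orderOf_eq_of_commute hz1 (P.mem z hz1) hz1 hcX hc.symm).2
    rw [hz] at ho
    rw [CfsgLib.Invol.mul_self_eq_one ho]
    exact one_mem _
  have hsup : (S : Subgroup G) ⊔ L = ⊤ := by
    have h2p : IsPGroup 2 (G ⧸ L) := fun q => by
      obtain ⟨g, rfl⟩ := QuotientGroup.mk_surjective q
      obtain ⟨l, hl, c, hc, rfl⟩ := hdec g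
      refine ⟨1, ?_⟩
      rw [pow_one, QuotientGroup.mk_mul, (QuotientGroup.eq_one_iff l).2 hl, one_mul, ← QuotientGroup.mk_pow,
        QuotientGroup.eq_one_iff, pow_two]
      exact hC2 c hc
    obtain ⟨k, hk⟩ := IsPGroup.iff_card.1 h2p
    have d1 : ((S : Subgroup G) ⊔ L).index ∣ 2 ^ k := hk ▸ index_dvd_of_le le_sup_right
    have d2 : ((S : Subgroup G) ⊔ L).index ∣ (S : Subgroup G).index := index_dvd_of_le le_sup_left
    exact index_eq_one.1 (Nat.eq_one_of_dvd_coprimes
      ((Nat.prime_two.coprime_iff_not_dvd.2 S.not_dvd_index).pow_left k) d1 d2)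
  haveI hcyc : IsCyclic ((S : Subgroup G) ⊓ X : Subgroup G) := P.isCyclic_inf S hz hzS hzc hS huniq
  obtain ⟨r, hr⟩ := IsCyclic.exists_generator (α := ((S : Subgroup G) ⊓ X : Subgroup G))
  obtain ⟨hrS, hrX⟩ := mem_inf.1 r.2
  have hSle : (S : Subgroup G) ≤ zpowers (r : G) ⊔ L := by
    have hQle : ∀ a ∈ (S : Subgroup G), a ∈ X → a ∈ zpowers (r : G) ⊔ L := by
      intro a ha haX
      obtain ⟨k, hk⟩ := mem_zpowers_iff.1 (hr ⟨a, mem_inf.2 ⟨ha, haX⟩⟩)
      exact mem_sup_left (mem_zpowers_iff.2 ⟨k, congrArg Subtype.val hk⟩)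
    intro a ha
    by_cases haX : a ∈ X
    · exact hQle a ha haX
    · rw [show a = a * s * s by rw [mul_assoc, CfsgLib.Invol.mul_self_eq_one hs2, mul_one]]
      exact mul_mem (hQle _ (mul_mem ha hsS) (hidx a ha haX s hsS hsX)) (mem_sup_right hsL')
  have htop : zpowers (r : G) ⊔ L = ⊤ := eq_top_iff.2 (hsup ▸ sup_le hSle le_sup_right)
  by_cases hrL : (r : G) ∈ L
  · left
    have hLtop : L = ⊤ := by rw [← htop]; exact (sup_eq_right.2 (zpowers_le.2 hrL)).symm
    exact ⟨F, iF, iFt, h4, ⟨(topEquiv.symm.trans (MulEquiv.subgroupCongr hLtop.symm)).trans e⟩⟩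
  · right
    have hu : s * (r : G) ∉ X := fun h => hsX ((Subgroup.mul_mem_cancel_right _ hrX).1 h)
    have huo := (P.outside S hz hzc (mul_mem hsS hrS) hu).1
    have huL : s * (r : G) ∉ L := fun h => hrL ((Subgroup.mul_mem_cancel_left _ hsL').1 h)
    refine ⟨F, iF, iFt, hcard, hodd, pgl_of_extension P hnil L hC e hodd huo huL fun g => ?_⟩
    obtain ⟨a, ha, l, hl, rfl⟩ := mem_sup_of_normal_right.1 (htop ▸ mem_top g)
    obtain ⟨k, rfl⟩ := mem_zpowers_iff.1 ha
    have hq : (QuotientGroup.mk (r : G) : G ⧸ L) * (r : G) = 1 := by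
      rw [← QuotientGroup.mk_mul, QuotientGroup.eq_one_iff]; exact hsqX _ hrX
    rw [← QuotientGroup.eq_one_iff, ← QuotientGroup.eq_one_iff (N := L) ((r : G) ^ k * l * (s * r)),
      QuotientGroup.mk_mul, QuotientGroup.mk_mul, QuotientGroup.mk_mul, QuotientGroup.mk_zpow,
      QuotientGroup.mk_mul, (QuotientGroup.eq_one_iff l).2 hl, (QuotientGroup.eq_one_iff s).2 hsL',
      mul_one, one_mul]
    obtain ⟨j, rfl | rfl⟩ := Int.even_or_odd' k
    · left; rw [zpow_mul, zpow_two, hq, one_zpow]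
    · right; rw [zpow_add_one, zpow_mul, zpow_two, hq, one_zpow, one_mul, hq]
where
  solvable_of_card_two {H : Type u} [Group H] [Finite H] (h : Nat.card H = 2) : Group.IsSolvable H := by
    haveI : Fact (Nat.Prime 2) := ⟨Nat.prime_two⟩
    haveI := isCyclic_of_prime_card h
    exact Group.isSolvable_of_comm fun a b => (IsCyclic.commutative (α := H)).is_comm.comm a b

/-- Groups without solvable normal subgroups. -/
theorem semi_case [Nontrivial G] :
    (∃ (F : Type) (_ : Field F) (_ : Fintype F), 4 ≤ Fintype.card F ∧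
      Nonempty (G ≃* Matrix.ProjectiveSpecialLinearGroup (Fin 2) F)) ∨
    (∃ (F : Type) (_ : Field F) (_ : Fintype F), 5 ≤ Fintype.card F ∧ Odd (Fintype.card F) ∧
      Nonempty (G ≃* (GL (Fin 2) F ⧸ center (GL (Fin 2) F)))) ∨ Cfsg.Lie.IsoSuzuki G := by
  classical
  haveI : Fact (Nat.Prime 2) := ⟨Nat.prime_two⟩
  obtain ⟨S⟩ := (inferInstance : Nonempty (Sylow 2 G))
  haveI : Nontrivial (S : Subgroup G) := (nontrivial_iff_ne_bot _).2 (S.ne_bot_of_dvd_card hs.two_dvd)
  haveI := S.2.center_nontrivial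
  obtain ⟨z₀, hz₀⟩ := exists_prime_orderOf_dvd_card' (G := center (S : Subgroup G)) 2
    ((S.2.to_subgroup _).card_eq_or_dvd.resolve_left fun e => (nontrivial_iff_ne_bot _).1
      inferInstance (card_eq_one.1 e))
  set z : G := ((z₀ : (S : Subgroup G)) : G)
  have hz : orderOf z = 2 := by rw [Subgroup.orderOf_coe, Subgroup.orderOf_coe, hz₀]
  have hzS : z ∈ (S : Subgroup G) := (z₀ : (S : Subgroup G)).2
  have hzc : ∀ s ∈ (S : Subgroup G), Commute s z := fun s hs' =>
    congrArg Subtype.val (mem_center_iff.1 z₀.2 ⟨s, hs'⟩)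
  -- a central involution of the Sylow subgroup with a component of exponent two, or a conclusion
  have step : ∀ t ∈ (S : Subgroup G), orderOf t = 2 → (∀ s ∈ (S : Subgroup G), Commute s t) →
      ((∃ (F : Type) (_ : Field F) (_ : Fintype F), 4 ≤ Fintype.card F ∧
        Nonempty (G ≃* Matrix.ProjectiveSpecialLinearGroup (Fin 2) F)) ∨
      (∃ (F : Type) (_ : Field F) (_ : Fintype F), 5 ≤ Fintype.card F ∧ Odd (Fintype.card F) ∧
        Nonempty (G ≃* (GL (Fin 2) F ⧸ center (GL (Fin 2) F)))) ∨ Cfsg.Lie.IsoSuzuki G) ∨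
      ((∀ x ∈ P.comp t, x * x = 1) ∧ ∀ s ∈ (S : Subgroup G), s * s = 1) := by
    intro t htS ht htc
    have ht1 := CfsgLib.Invol.ne_one ht
    by_cases hS : (S : Subgroup G) ≤ P.comp t
    · rcases P.classify_inside hnil hs S ht1 hS with h | h
      · exact Or.inl (Or.inl h)
      · exact Or.inl (Or.inr (Or.inr h))
    by_cases hidx : ∀ a ∈ (S : Subgroup G), a ∉ P.comp t → ∀ b ∈ (S : Subgroup G), b ∉ P.comp t →
        a * b ∈ P.comp t
    · rcases P.dihedral_case hnil hs S ht htS htc hS hidx with h | h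
      · exact Or.inl (Or.inl h)
      · exact Or.inl (Or.inr (Or.inl h))
    push Not at hidx
    obtain ⟨a, ha, haX, b, hb, hbX, hab⟩ := hidx
    have hexp : ∀ x ∈ P.comp t, x * x = 1 := fun x hx => by
      have h1 := (P.outside S ht htc (mul_mem ha hb) hab).2 x hx
      rw [show a * b * x * (a * b)⁻¹ = a * (b * x * b⁻¹) * a⁻¹ by group,
        (P.outside S ht htc hb hbX).2 x hx, (P.outside S ht htc ha haX).2 _ (inv_mem hx), inv_inv] at h1
      exact eq_inv_iff_mul_eq_one.1 h1
    refine Or.inr ⟨hexp, fun s hs' => ?_⟩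
    by_cases hsX : s ∈ P.comp t
    · exact hexp s hsX
    · exact CfsgLib.Invol.mul_self_eq_one (P.outside S ht htc hs' hsX).1
  rcases step z hzS hz hzc with h | ⟨-, hsq⟩
  · exact h
  by_cases hall : ∃ t ∈ (S : Subgroup G), orderOf t = 2 ∧ ¬ ∀ x ∈ P.comp t, x * x = 1
  · obtain ⟨t, htS, ht, hne⟩ := hall
    have htc : ∀ s ∈ (S : Subgroup G), Commute s t := fun s hs' => by
      show s * t = t * s
      rw [← inv_eq_of_mul_eq_one_right (hsq (s * t) (mul_mem hs' htS)), mul_inv_rev,
        inv_eq_of_mul_eq_one_right (hsq s hs'), inv_eq_of_mul_eq_one_right (hsq t htS)]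
    exact ((step t htS ht htc).resolve_right fun h => hne h.1)
  push Not at hall
  -- all components of involutions have exponent two
  have hexp : ∀ t : G, orderOf t = 2 → ∀ a : G, Commute a t → a * a = 1 := by
    intro t ht
    have ht1 := CfsgLib.Invol.ne_one ht
    obtain ⟨R, hR⟩ := (show IsPGroup 2 (zpowers t) from
      IsPGroup.of_card (n := 1) (by rw [Nat.card_zpowers, ht, pow_one])).exists_le_sylow
    obtain ⟨c, hc⟩ := MulAction.exists_smul_eq G R S
    have hcS : c * t * c⁻¹ ∈ (S : Subgroup G) := by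
      rw [← hc, Sylow.smul_def, Sylow.pointwise_smul_def]
      exact ⟨t, hR (mem_zpowers t), rfl⟩
    have hX : ∀ x ∈ P.comp t, x * x = 1 := fun x hx => by
      have h1 := hall _ hcS (by rw [CfsgLib.Invol.orderOf_conj_eq, ht]) _ ((P.conj_iff ht1 c x).1 hx)
      have h2 : c * (x * x) * c⁻¹ = 1 := by rw [← h1]; group
      exact conj_eq_one_iff.1 h2
    intro a ha
    by_cases haX : a ∈ P.comp t
    · exact hX a haX
    · have ho := (P.orderOf_eq_of_commute ht1 (P.mem t ht1) ht1 haX ha.symm).2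
      exact CfsgLib.Invol.mul_self_eq_one (ho.trans ht)
  let comp' : G → Subgroup G := fun g => if g * g = 1 then centralizer ({g} : Set G) else P.comp g
  have hinv2 : ∀ g : G, g ≠ 1 → g * g = 1 → orderOf g = 2 := fun g h1 h2 =>
    CfsgLib.Invol.orderOf_eq_two h2 h1
  have hno : ∀ g h : G, g ≠ 1 → g * g ≠ 1 → h ≠ 1 → h ∈ P.comp g → h * h ≠ 1 := fun g h hg hgg hh hm e =>
    hgg (by
      obtain ⟨R, hR⟩ := (show IsPGroup 2 (zpowers h) from
        IsPGroup.of_card (n := 1) (by rw [Nat.card_zpowers, hinv2 h hh e, pow_one])).exists_le_sylow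
      obtain ⟨c, hc⟩ := MulAction.exists_smul_eq G R S
      have hcS : c * h * c⁻¹ ∈ (S : Subgroup G) := by
        rw [← hc, Sylow.smul_def, Sylow.pointwise_smul_def]
        exact ⟨h, hR (mem_zpowers h), rfl⟩
      have h1 := hall _ hcS (by rw [CfsgLib.Invol.orderOf_conj_eq, hinv2 h hh e]) _
        ((P.conj_iff hh c g).1 (P.mem_comm hg hh hm))
      exact conj_eq_one_iff.1 (show c * (g * g) * c⁻¹ = 1 by rw [← h1]; group))
  refine (?_ : (∃ (F : Type) (_ : Field F) (_ : Fintype F), 4 ≤ Fintype.card F ∧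
      Nonempty (G ≃* Matrix.ProjectiveSpecialLinearGroup (Fin 2) F)) ∨ Cfsg.Lie.IsoSuzuki G).imp id Or.inr
  let P' : Part G :=
    { comp := comp'
      mem := fun g hg => by
        by_cases h : g * g = 1
        · simp only [comp', if_pos h]; exact mem_centralizer_singleton_iff.2 rfl
        · simp only [comp', if_neg h]; exact P.mem g hg
      eq_of_mem := fun g h hg hh hm => by
        by_cases hgg : g * g = 1
        · simp only [comp', if_pos hgg] at hm ⊢
          have hhh := hexp g (hinv2 g hg hgg) h (mem_centralizer_singleton_iff.1 hm)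
          rw [if_pos hhh]
          have hgo := hinv2 g hg hgg
          have hho := hinv2 h hh hhh
          have key : ∀ a b c : G, orderOf a = 2 → Commute b a → Commute c a → Commute c b :=
            fun a b c ha hb hc => by
              show c * b = b * c
              rw [← inv_eq_of_mul_eq_one_right (hexp a ha _ (hc.mul_left hb)), mul_inv_rev,
                inv_eq_of_mul_eq_one_right (hexp a ha b hb), inv_eq_of_mul_eq_one_right (hexp a ha c hc)]
          have hhg : Commute h g := mem_centralizer_singleton_iff.1 hm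
          refine le_antisymm (fun c hc => mem_centralizer_singleton_iff.2 ?_)
            (fun c hc => mem_centralizer_singleton_iff.2 ?_)
          · exact (key h g c hho hhg.symm (mem_centralizer_singleton_iff.1 hc)).eq
          · exact (key g h c hgo hhg (mem_centralizer_singleton_iff.1 hc)).eq
        · simp only [comp', if_neg hgg] at hm ⊢
          rw [if_neg (hno g h hg hgg hh hm)]
          exact P.eq_of_mem g h hg hh hm
      conj := fun a g hg x hx => by
        by_cases h : g * g = 1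
        · have h' : a * g * a⁻¹ * (a * g * a⁻¹) = 1 := by
            rw [show a * g * a⁻¹ * (a * g * a⁻¹) = a * (g * g) * a⁻¹ by group, h]; group
          simp only [comp', if_pos h, if_pos h'] at hx ⊢
          exact mem_centralizer_singleton_iff.2
            ((show Commute x g from mem_centralizer_singleton_iff.1 hx).map (MulAut.conj a)).eq
        · have h' : a * g * a⁻¹ * (a * g * a⁻¹) ≠ 1 := fun e => h (conj_eq_one_iff.1
            (show a * (g * g) * a⁻¹ = 1 by rw [← e]; group))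
          simp only [comp', if_neg h, if_neg h'] at hx ⊢
          exact P.conj a g hg x hx
      ne_top := fun g hg => by
        by_cases h : g * g = 1
        · simp only [comp', if_pos h]
          intro e
          obtain ⟨a, ha⟩ := hs.no_invol_sq
          exact ha (hexp g (hinv2 g hg h) a (mem_centralizer_singleton_iff.1 (e ▸ mem_top a)))
        · simp only [comp', if_neg h]; exact P.ne_top g hg }
  have hnil' : P'.Nilp := fun g hg => by
    show Group.IsNilpotent (comp' g)
    by_cases h : g * g = 1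
    · rw [show comp' g = centralizer ({g} : Set G) from if_pos h]
      exact isNilpotent_of_sq_eq_one fun a ha => hexp g (hinv2 g hg h) a (mem_centralizer_singleton_iff.1 ha)
    · rw [show comp' g = P.comp g from if_neg h]; exact hnil g hg
  refine P'.classify_inside hnil' hs S (CfsgLib.Invol.ne_one hz) ?_
  intro s hs'
  show s ∈ comp' z
  simp only [comp', if_pos (CfsgLib.Invol.mul_self_eq_one hz)]
  exact mem_centralizer_singleton_iff.2 (hzc s hs').eq

end Part

/-- The groups with a nontrivial partition. -/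
theorem classify (P : Part G) [Nontrivial G] :
    Nonempty (G ≃* Equiv.Perm (Fin 4)) ∨
    (∃ p : ℕ, p.Prime ∧ Subgroup.closure {g : G | g ^ p ≠ 1} ≠ ⊤) ∨
    (∃ H : Subgroup G, Cfsg.IsFrobeniusComplement H) ∨
    (∃ (F : Type) (_ : Field F) (_ : Fintype F), 4 ≤ Fintype.card F ∧
        Nonempty (G ≃* Matrix.ProjectiveSpecialLinearGroup (Fin 2) F)) ∨
    (∃ (F : Type) (_ : Field F) (_ : Fintype F), 5 ≤ Fintype.card F ∧ Odd (Fintype.card F) ∧
        Nonempty (G ≃* (GL (Fin 2) F ⧸ center (GL (Fin 2) F)))) ∨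
    Cfsg.Lie.IsoSuzuki G := by
  classical
  by_cases hZ : center G = ⊥
  swap
  · obtain ⟨z, hz, hz1⟩ := (bot_or_exists_ne_one _).resolve_left hZ
    obtain ⟨p, hp, hd⟩ := Nat.exists_prime_and_dvd (mt orderOf_eq_one_iff.1 hz1)
    set w := z ^ (orderOf z / p)
    have hw : orderOf w = p := orderOf_pow_orderOf_div (orderOf_pos z).ne' hd
    have hw1 : w ≠ 1 := fun e => hp.ne_one (by rw [← hw, e, orderOf_one])
    refine Or.inr (Or.inl ⟨p, hp, fun htop => P.ne_top w hw1 (eq_top_iff.2 (htop ▸ (closure_le _).2 ?_))⟩)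
    intro a ha
    by_contra haX
    refine ha ?_
    have ho := (P.orderOf_eq_of_commute hw1 (P.mem w hw1) hw1 haX
      (show Commute w a from (mem_center_iff.1 (pow_mem hz _) a).symm)).2
    rw [← hw, ← ho]
    exact pow_orderOf_eq_one a
  by_cases hself : ∃ g : G, g ≠ 1 ∧ normalizer (P.comp g : Set G) = P.comp g
  · obtain ⟨g, hg, he⟩ := hself
    refine Or.inr (Or.inr (Or.inl ⟨P.comp g, fun e => hg ?_, P.ne_top g hg, fun a ha => ?_⟩))
    · have h := P.mem g hg; rwa [e, mem_bot] at h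
    refine (eq_bot_iff_forall _).2 fun x hx => by_contra fun hx1 => ha ?_
    obtain ⟨hxX, hxa⟩ := mem_inf.1 hx
    rw [mem_pointwise_smul_iff_inv_smul_mem, MulAut.smul_def, MulAut.conj_inv_apply] at hxa
    have h1 := P.mem_normalizer hg hxX hx1 (a := a⁻¹) (by rwa [inv_inv])
    rw [he] at h1
    simpa using inv_mem h1
  push Not at hself
  have hnil : P.Nilp := fun g hg => P.isNilpotent hg (hself g hg)
  by_cases hs : Semi G
  · rcases P.semi_case hnil hs with h | h | h
    · exact Or.inr (Or.inr (Or.inr (Or.inl h)))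
    · exact Or.inr (Or.inr (Or.inr (Or.inr (Or.inl h))))
    · exact Or.inr (Or.inr (Or.inr (Or.inr (Or.inr h))))
  unfold Semi at hs
  push Not at hs
  obtain ⟨R, hRn, hRs, hR1⟩ := hs
  haveI := hRn
  obtain ⟨N, hNn, hN1, -, hNc, -, p, hp, hexp, -⟩ := CfsgLib.Solvable.exists_normal_elementary_le hR1 hRs
  haveI := hNn
  haveI := Fact.mk hp
  by_cases hNX : ∃ g : G, g ≠ 1 ∧ N ≤ P.comp g
  · obtain ⟨g, hg, hle⟩ := hNX
    haveI : (P.comp g).Normal := by
      obtain ⟨n, hn, hn1⟩ := (bot_or_exists_ne_one _).resolve_left hN1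
      refine normalizer_eq_top_iff.1 (eq_top_iff.2 fun a _ => ?_)
      exact P.mem_normalizer hg (hle hn) hn1 (hle (hNn.conj_mem n hn a))
    rcases P.of_normal_comp hg (hnil g hg) with h | h
    · exact Or.inr (Or.inl h)
    · exact Or.inr (Or.inr (Or.inl h))
  push Not at hNX
  rcases P.of_abelian_normal hnil hZ hNc hexp hN1 hNX with h | h
  · exact Or.inr (Or.inr (Or.inl h))
  · exact Or.inl h

end CfsgLib.Partition
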