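import Cfsg.Agent.S3946
import Cfsg.Agent.FGSA.Nilpotent
import Cfsg.Agent.Solvable.Basics
import Cfsg.Agent.Comp.Fitting
import Cfsg.Agent.OddEnd.FourteenFinal

/-!
# Groups with a nontrivial partition: basic facts

`P.comp g` is the component of the element `g`. The components form a family invariant under
conjugation. Commuting elements in different components have the same prime order; elements of
`N(X)` outside a component `X` have the order of their image modulo `X`; components which are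
proper in their normaliser are nilpotent.
-/

set_option autoImplicit false
set_option linter.unusedSectionVars false
set_option linter.style.haveILetI false

namespace CfsgLib.Partition

open Subgroup

universe u

/-- A conjugation invariant partition. -/
structure Part (G : Type u) [Group G] where
  /-- the component of an element -/
  comp : G → Subgroup G
  mem : ∀ g : G, g ≠ 1 → g ∈ comp g
  eq_of_mem : ∀ g h : G, g ≠ 1 → h ≠ 1 → h ∈ comp g → comp h = comp g
  conj : ∀ a g : G, g ≠ 1 → ∀ x : G, x ∈ comp g → a * x * a⁻¹ ∈ comp (a * g * a⁻¹)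
  ne_top : ∀ g : G, g ≠ 1 → comp g ≠ ⊤

variable {G : Type u} [Group G]

theorem conj_ne_one {a g : G} (hg : g ≠ 1) : a * g * a⁻¹ ≠ 1 := fun e => hg (conj_eq_one_iff.1 e)

/-- A nontrivial partition can be refined to one invariant under conjugation. -/
theorem exists_part (S : Set (Subgroup G)) (hS2 : ∃ H ∈ S, ∃ K ∈ S, H ≠ K) (hS1 : ∀ H ∈ S, H ≠ ⊥)
    (hpart : ∀ g : G, g ≠ 1 → ∃! H : Subgroup G, H ∈ S ∧ g ∈ H) : Nonempty (Part G) := by
  classical
  have huniq : ∀ {x : G} {H K : Subgroup G}, x ≠ 1 → H ∈ S → x ∈ H → K ∈ S → x ∈ K → H = K :=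
    fun hx hH hxH hK hxK => (hpart _ hx).unique ⟨hH, hxH⟩ ⟨hK, hxK⟩
  let c : G → Subgroup G := fun g => if h : g = 1 then ⊤ else Classical.choose (hpart g h)
  have hc : ∀ g : G, g ≠ 1 → c g ∈ S ∧ g ∈ c g := fun g hg => by
    simp only [c, dif_neg hg]; exact (Classical.choose_spec (hpart g hg)).1
  have hmem : ∀ g x : G, g ≠ 1 →
      (x ∈ (⨅ a : G, (c (a⁻¹ * g * a)).map (MulAut.conj a).toMonoidHom) ↔
        ∀ a : G, a⁻¹ * x * a ∈ c (a⁻¹ * g * a)) := by
    intro g x _
    rw [mem_iInf]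
    refine forall_congr' fun a => ⟨?_, fun h => ⟨_, h, by simp [mul_assoc]⟩⟩
    rintro ⟨w, hw, rfl⟩
    simpa [mul_assoc] using hw
  have hne : ∀ {a g : G}, g ≠ 1 → a⁻¹ * g * a ≠ 1 := fun {a g} hg e => hg (by
    have := congrArg (fun t => a * t * a⁻¹) e
    simpa [mul_assoc] using this)
  refine ⟨⟨fun g => ⨅ a : G, (c (a⁻¹ * g * a)).map (MulAut.conj a).toMonoidHom,
    fun g hg => (hmem g g hg).2 fun a => (hc _ (hne hg)).2, ?_, ?_, ?_⟩⟩
  · intro g h hg hh hmem'
    have key : ∀ a : G, c (a⁻¹ * h * a) = c (a⁻¹ * g * a) := fun a =>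
      huniq (hne hh) (hc _ (hne hh)).1 (hc _ (hne hh)).2 (hc _ (hne hg)).1 ((hmem g h hg).1 hmem' a)
    simp only [key]
  · intro b g hg x hx
    refine (hmem _ _ (conj_ne_one hg)).2 fun a => ?_
    have := (hmem g x hg).1 hx (b⁻¹ * a)
    simpa [mul_assoc] using this
  · intro g hg htop
    obtain ⟨H, hH, K, hK, hHK⟩ := hS2
    refine hHK ?_
    have hall : ∀ H ∈ S, H = c g := fun H hH => by
      obtain ⟨x, hx, hx1⟩ := exists_ne_one_of_mem_of_ne_bot (hS1 H hH)
      refine huniq hx1 hH hx (hc g hg).1 ?_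
      have := (hmem g x hg).1 (htop ▸ mem_top x) 1
      simpa using this
    rw [hall H hH, hall K hK]
where
  exists_ne_one_of_mem_of_ne_bot {H : Subgroup G} (h : H ≠ ⊥) : ∃ x, x ∈ H ∧ x ≠ 1 :=
    ((bot_or_exists_ne_one H).resolve_left h).imp fun _ hx => ⟨hx.1, hx.2⟩

namespace Part

variable (P : Part G)

theorem conj_iff {g : G} (hg : g ≠ 1) (a x : G) :
    x ∈ P.comp g ↔ a * x * a⁻¹ ∈ P.comp (a * g * a⁻¹) := by
  refine ⟨P.conj a g hg x, fun h => ?_⟩
  simpa [mul_assoc] using P.conj a⁻¹ _ (conj_ne_one hg) _ h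

theorem mem_comm {g h : G} (hg : g ≠ 1) (hh : h ≠ 1) (hm : h ∈ P.comp g) : g ∈ P.comp h :=
  P.eq_of_mem g h hg hh hm ▸ P.mem g hg

/-- Trivial intersection. -/
theorem mem_normalizer {g x a : G} (hg : g ≠ 1) (hx : x ∈ P.comp g) (hx1 : x ≠ 1)
    (ha : a * x * a⁻¹ ∈ P.comp g) : a ∈ normalizer (P.comp g : Set G) := by
  refine Subgroup.mem_normalizer_iff.2 fun y => ?_
  have h1 := P.eq_of_mem g x hg hx1 hx
  have h2 : P.comp (a * x * a⁻¹) = P.comp g := P.eq_of_mem g _ hg (conj_ne_one hx1) ha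
  rw [← h1, P.conj_iff hx1 a y, h2, h1]

theorem normalizer_of_commute {g x a : G} (hg : g ≠ 1) (hx : x ∈ P.comp g) (hx1 : x ≠ 1)
    (hc : Commute a x) : a ∈ normalizer (P.comp g : Set G) :=
  P.mem_normalizer hg hx hx1 (by rw [hc.eq, mul_inv_cancel_right]; exact hx)

theorem centralizer_le_normalizer {g x : G} (hg : g ≠ 1) (hx : x ∈ P.comp g) (hx1 : x ≠ 1) :
    centralizer ({x} : Set G) ≤ normalizer (P.comp g : Set G) := fun _ ha =>
  P.normalizer_of_commute hg hx hx1 (mem_centralizer_singleton_iff.1 ha)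

/-- Commuting elements in different components have the same prime order. -/
theorem prime_of_commute [Finite G] {x y : G} (hx : x ≠ 1) (hy : y ≠ 1) (hc : Commute x y)
    (hne : y ∉ P.comp x) : (orderOf x).Prime ∧ orderOf y = orderOf x := by
  have key : ∀ x y : G, x ≠ 1 → y ≠ 1 → Commute x y → y ∉ P.comp x → orderOf y ∣ orderOf x := by
    intro x y hx hy hc hne
    have h1 : x * y ≠ 1 := fun e => hne (by
      rw [eq_inv_of_mul_eq_one_right e]; exact inv_mem (P.mem x hx))
    by_contra hdvd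
    have h2 : y ^ orderOf x ≠ 1 := fun e => hdvd (orderOf_dvd_of_pow_eq_one e)
    have h3 : (x * y) ^ orderOf x = y ^ orderOf x := by rw [hc.mul_pow, pow_orderOf_eq_one, one_mul]
    have h4 : P.comp (x * y) = P.comp y :=
      ((P.eq_of_mem _ _ h1 h2 (h3 ▸ pow_mem (P.mem _ h1) _)).symm).trans
        (P.eq_of_mem y _ hy h2 (pow_mem (P.mem y hy) _))
    have h5 : x ∈ P.comp y := by
      have h6 : x * y ∈ P.comp y := h4 ▸ P.mem _ h1
      simpa using mul_mem h6 (inv_mem (P.mem y hy))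
    exact hne (P.mem_comm hy hx h5)
  have heq : ∀ x y : G, x ≠ 1 → y ≠ 1 → Commute x y → y ∉ P.comp x → orderOf y = orderOf x :=
    fun x y hx hy hc hne => Nat.dvd_antisymm (key x y hx hy hc hne)
      (key y x hy hx hc.symm fun h => hne (P.mem_comm hy hx h))
  refine ⟨?_, heq x y hx hy hc hne⟩
  obtain ⟨p, hp, hdvd⟩ := Nat.exists_prime_and_dvd (mt orderOf_eq_one_iff.1 hx)
  have hp1 : orderOf (x ^ (orderOf x / p)) = p := orderOf_pow_orderOf_div (orderOf_pos x).ne' hdvd
  have hne1 : x ^ (orderOf x / p) ≠ 1 := fun e => hp.ne_one (by rw [← hp1, e, orderOf_one])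
  have h := heq _ y hne1 hy (hc.pow_left _) fun h =>
    hne (P.eq_of_mem x _ hx hne1 (pow_mem (P.mem x hx) _) ▸ h)
  rw [← heq x y hx hy hc hne, h, hp1]
  exact hp

/-- A commuting element of a different order lies in the component. -/
theorem mem_of_commute [Finite G] {x y : G} (hx : x ≠ 1) (hy : y ≠ 1) (hc : Commute x y)
    (ho : orderOf y ≠ orderOf x) : y ∈ P.comp x :=
  by_contra fun h => ho (P.prime_of_commute hx hy hc h).2

/-- Commuting elements, one of them outside the component, have equal prime orders. -/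
theorem orderOf_eq_of_commute [Finite G] {g x y : G} (hg : g ≠ 1) (hx : x ∈ P.comp g) (hx1 : x ≠ 1)
    (hy : y ∉ P.comp g) (hc : Commute x y) : (orderOf x).Prime ∧ orderOf y = orderOf x :=
  P.prime_of_commute hx1 (fun e => hy (e ▸ one_mem _)) hc (P.eq_of_mem g x hg hx1 hx ▸ hy)

/-- Powers of an element of `N(X) \ X` meet `X` trivially. -/
theorem pow_eq_one_of_mem {g a : G} (hg : g ≠ 1) (ha : a ∉ P.comp g) {k : ℕ}
    (hk : a ^ k ∈ P.comp g) : a ^ k = 1 := by
  by_contra h
  have ha1 : a ≠ 1 := fun e => ha (e ▸ one_mem _)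
  have := (P.eq_of_mem g _ hg h hk).symm.trans (P.eq_of_mem a _ ha1 h (pow_mem (P.mem a ha1) _))
  exact ha (this ▸ P.mem a ha1)

theorem not_mem_mul {g a x : G} (hx : x ∈ P.comp g) (ha : a ∉ P.comp g) : x * a ∉ P.comp g :=
  fun h => ha ((Subgroup.mul_mem_cancel_left _ hx).1 h)

/-- The coset of an element outside the component. -/
theorem mul_pow_eq_one [Finite G] {g a x : G} (hg : g ≠ 1)
    (hN : a ∈ normalizer (P.comp g : Set G)) (ha : a ∉ P.comp g) (hx : x ∈ P.comp g) {k : ℕ}
    (hk : a ^ k ∈ P.comp g) : (x * a) ^ k = 1 := by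
  refine P.pow_eq_one_of_mem hg (P.not_mem_mul hx ha) ?_
  have : ∀ i : ℕ, (x * a) ^ i * (a ^ i)⁻¹ ∈ P.comp g := by
    intro i
    induction i with
    | zero => simp
    | succ i ih =>
      rw [pow_succ', pow_succ', mul_inv_rev, show x * a * (x * a) ^ i * ((a ^ i)⁻¹ * a⁻¹) =
        x * (a * ((x * a) ^ i * (a ^ i)⁻¹) * a⁻¹) by group]
      exact mul_mem hx ((Subgroup.mem_normalizer_iff.1 hN _).1 ih)
  simpa using mul_mem (this k) hk

/-- An element of `N(X) \ X` squaring into `X` is an involution inverting `X`. -/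
theorem inverts [Finite G] {g a : G} (hg : g ≠ 1) (hN : a ∈ normalizer (P.comp g : Set G))
    (ha : a ∉ P.comp g) (h2 : a * a ∈ P.comp g) :
    orderOf a = 2 ∧ ∀ x ∈ P.comp g, a * x * a⁻¹ = x⁻¹ := by
  have hk : a ^ 2 ∈ P.comp g := by rwa [pow_two]
  have ha2 : a * a = 1 := by
    have := P.pow_eq_one_of_mem hg ha hk
    rwa [pow_two] at this
  refine ⟨orderOf_eq_prime (by rw [pow_two, ha2]) fun e => ha (e ▸ one_mem _), fun x hx => ?_⟩
  have h := P.mul_pow_eq_one hg hN ha hx hk
  rw [pow_two] at h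
  rw [inv_eq_of_mul_eq_one_right ha2]
  exact eq_inv_of_mul_eq_one_right (by rw [← h]; group)

theorem comm_of_inverts {H : Subgroup G} {a : G} (h : ∀ x ∈ H, a * x * a⁻¹ = x⁻¹) :
    ∀ x ∈ H, ∀ y ∈ H, x * y = y * x := by
  intro x hx y hy
  have h' : MulAut.conj a (x * y) = MulAut.conj a x * MulAut.conj a y := map_mul _ _ _
  simp only [MulAut.conj_apply] at h'
  rw [h _ (mul_mem hx hy), h x hx, h y hy, mul_inv_rev] at h'
  calc x * y = (y⁻¹ * x⁻¹)⁻¹ := by group
    _ = (x⁻¹ * y⁻¹)⁻¹ := by rw [h']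
    _ = y * x := by group

/-- A component which is proper in its normaliser is nilpotent. -/
theorem isNilpotent [Finite G] {g : G} (hg : g ≠ 1)
    (hne : normalizer (P.comp g : Set G) ≠ P.comp g) : Group.IsNilpotent (P.comp g) := by
  set X := P.comp g
  obtain ⟨a, haN, haX⟩ := SetLike.exists_of_lt (lt_of_le_of_ne le_normalizer hne.symm)
  have ha1 : a ≠ 1 := fun e => haX (e ▸ one_mem _)
  obtain ⟨q, hq, hdvd⟩ := Nat.exists_prime_and_dvd (mt orderOf_eq_one_iff.1 ha1)
  set b := a ^ (orderOf a / q) with hb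
  have hbo : orderOf b = q := orderOf_pow_orderOf_div (orderOf_pos a).ne' hdvd
  have hbN : b ∈ normalizer (X : Set G) := pow_mem haN _
  have hb1 : b ≠ 1 := fun e => hq.ne_one (by rw [← hbo, e, orderOf_one])
  have hbX : b ∉ X := fun h => hb1 (P.pow_eq_one_of_mem hg haX h)
  have hbq : b ^ q = 1 := hbo ▸ pow_orderOf_eq_one b
  have hqX : b ^ q ∈ X := by rw [hbq]; exact one_mem _
  let α : MulAut X :=
    { toFun := fun x => ⟨b * x * b⁻¹, (Subgroup.mem_normalizer_iff.1 hbN _).1 x.2⟩
      invFun := fun x => ⟨b⁻¹ * x * b, (Subgroup.mem_normalizer_iff''.1 hbN _).1 x.2⟩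
      left_inv := fun x => Subtype.ext (by simp [mul_assoc])
      right_inv := fun x => Subtype.ext (by simp [mul_assoc])
      map_mul' := fun x y => Subtype.ext (by simp [mul_assoc]) }
  have hpow : ∀ (i : ℕ) (x : X), (((α ^ i) x : X) : G) = b ^ i * x * (b ^ i)⁻¹ := by
    intro i
    induction i with
    | zero => intro x; simp
    | succ i ih =>
      intro x
      rw [pow_succ', MulAut.mul_apply]
      show b * (((α ^ i) x : X) : G) * b⁻¹ = _
      rw [ih x, pow_succ']
      group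
  have hprod : ∀ x : X, ((List.range q).map (fun i : ℕ => (α ^ i) x)).prod = 1 := by
    intro x
    have hi : ∀ n : ℕ, ((((List.range n).map (fun i : ℕ => (α ^ i) x)).prod : X) : G) * b ^ n =
        ((x : G) * b) ^ n := by
      intro n
      induction n with
      | zero => simp
      | succ n ih =>
        rw [List.range_succ, List.map_append, List.prod_append, List.map_cons, List.map_nil,
          List.prod_cons, List.prod_nil, mul_one, Subgroup.coe_mul, hpow, pow_succ ((x : G) * b),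
          ← ih, pow_succ]
        group
    refine Subtype.ext ?_
    have h := hi q
    rw [P.mul_pow_eq_one hg hbN hbX x.2 hqX, hbq, mul_one] at h
    exact h
  haveI := Fact.mk hq
  by_cases hα : α = 1
  · refine IsPGroup.isNilpotent (p := q) fun x => ⟨1, ?_⟩
    have := hprod x
    simpa [hα] using this
  · have hord : orderOf α = q := orderOf_eq_prime (MulEquiv.ext fun x => Subtype.ext (by
      rw [hpow, hbq]; simp)) hα
    exact Cfsg.Agent.S3946.result α (hord ▸ hq) (by rw [hord]; exact hprod)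

/-- An element of prime power order normalising a component with elements of that order
fixes a nontrivial element. -/
theorem exists_commute_mem [Finite G] {g a : G} {r : ℕ} [Fact r.Prime]
    (hN : a ∈ normalizer (P.comp g : Set G)) (ha : ∃ k, a ^ r ^ k = 1)
    (hr : r ∣ Nat.card (P.comp g)) (hnil : Group.IsNilpotent (P.comp g)) :
    ∃ x ∈ P.comp g, x ≠ 1 ∧ Commute x a := by
  classical
  obtain ⟨k, hk⟩ := ha
  set X := P.comp g
  haveI := hnil
  have hconj : ∀ x : X, a * (x : G) * a⁻¹ ∈ X := fun x => (Subgroup.mem_normalizer_iff.1 hN _).1 x.2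
  haveI hpf : IsPGroup r (zpowers a) := by
    refine IsPGroup.iff_card.2 ?_
    obtain ⟨i, -, hi⟩ := (Nat.dvd_prime_pow Fact.out).1 (orderOf_dvd_of_pow_eq_one hk)
    exact ⟨i, by rw [Nat.card_zpowers, hi]⟩
  -- the action on the set of elements of `r`-power order
  let T := {x : G // x ∈ X ∧ ∃ j, x ^ r ^ j = 1}
  have hT : ∀ b ∈ zpowers a, ∀ x : T, b * (x : G) * b⁻¹ ∈ X ∧ ∃ j, (b * (x : G) * b⁻¹) ^ r ^ j = 1 := by
    intro b hb x
    refine ⟨(Subgroup.mem_normalizer_iff.1 (zpowers_le.2 hN hb) _).1 x.2.1, ?_⟩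
    obtain ⟨j, hj⟩ := x.2.2
    exact ⟨j, by rw [conj_pow, hj]; simp⟩
  letI : MulAction (zpowers a) T :=
    { smul := fun b x => ⟨(b : G) * x * (b : G)⁻¹, hT b b.2 x⟩
      one_smul := fun x => Subtype.ext (by show (1 : G) * _ * (1 : G)⁻¹ = _; simp)
      mul_smul := fun b c x => Subtype.ext (by
        show ((b * c : zpowers a) : G) * _ * ((b * c : zpowers a) : G)⁻¹ = _
        simp [HSMul.hSMul, mul_assoc]) }
  obtain ⟨Q⟩ := (inferInstance : Nonempty (Sylow r X))
  haveI : (Q : Subgroup X).Normal :=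
    Q.normal_of_normalizerCondition Group.normalizerCondition_of_isNilpotent
  have hmemQ : ∀ x : X, (∃ j, x ^ r ^ j = 1) → x ∈ (Q : Subgroup X) := by
    rintro x ⟨j, hj⟩
    have hz : IsPGroup r (zpowers x) := by
      refine IsPGroup.iff_card.2 ?_
      obtain ⟨i, -, hi⟩ := (Nat.dvd_prime_pow Fact.out).1 (orderOf_dvd_of_pow_eq_one hj)
      exact ⟨i, by rw [Nat.card_zpowers, hi]⟩
    obtain ⟨Q', hQ'⟩ := hz.exists_le_sylow
    haveI := Sylow.unique_of_normal Q inferInstance
    rw [Subsingleton.elim Q Q']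
    exact hQ' (mem_zpowers x)
  let e : T ≃ (Q : Subgroup X) :=
    { toFun := fun x => ⟨⟨x, x.2.1⟩, hmemQ _ (x.2.2.imp fun _ h => Subtype.ext (by
        rw [SubgroupClass.coe_pow]; exact h))⟩
      invFun := fun q => ⟨((q : X) : G), (q : X).2, (Q.2 q).imp fun _ h =>
        congrArg (fun t : (Q : Subgroup X) => ((t : X) : G)) h⟩
      left_inv := fun _ => Subtype.ext rfl
      right_inv := fun _ => Subtype.ext (Subtype.ext rfl) }
  have hdvd : r ∣ Nat.card T := by
    rw [Nat.card_congr e]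
    obtain ⟨m, hm, hc⟩ := Q.2.exists_card_eq.imp fun m hm => (⟨rfl, hm⟩ : m = m ∧ _)
    rcases m with _ | m
    · exact absurd (card_eq_one.1 (by simpa using hc)) (Q.ne_bot_of_dvd_card hr)
    · rw [hc, pow_succ]; exact dvd_mul_left _ _
  have hone : ((⟨1, one_mem _, ⟨0, by simp⟩⟩ : T)) ∈ MulAction.fixedPoints (zpowers a) T :=
    fun b => Subtype.ext (by show (b : G) * 1 * (b : G)⁻¹ = 1; simp)
  obtain ⟨y, hy, hne⟩ := hpf.exists_fixed_point_of_prime_dvd_card_of_fixed_point T hdvd hone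
  refine ⟨y, y.2.1, fun e' => hne (Subtype.ext e'.symm), ?_⟩
  have h1 := congrArg Subtype.val (hy ⟨a, mem_zpowers a⟩)
  exact (mul_inv_eq_iff_eq_mul.1 h1).symm

/-- If `X` has an element of prime order `r` then the elements of `N(X) \ X` of order divisible by
`r` have order `r`. -/
theorem orderOf_eq_prime_of_dvd [Finite G] {g a : G} {r : ℕ} [hr : Fact r.Prime] (hg : g ≠ 1)
    (hN : a ∈ normalizer (P.comp g : Set G)) (ha : a ∉ P.comp g)
    (hrX : r ∣ Nat.card (P.comp g)) (hra : r ∣ orderOf a) (hnil : Group.IsNilpotent (P.comp g)) :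
    orderOf a = r := by
  have ha1 : a ≠ 1 := fun e => ha (e ▸ one_mem _)
  set b := a ^ (orderOf a / r) with hb
  have hbo : orderOf b = r := orderOf_pow_orderOf_div (orderOf_pos a).ne' hra
  have hb1 : b ≠ 1 := fun e => hr.out.ne_one (by rw [← hbo, e, orderOf_one])
  have hbX : b ∉ P.comp g := fun h => hb1 (P.pow_eq_one_of_mem hg ha h)
  obtain ⟨x, hx, hx1, hxb⟩ := P.exists_commute_mem (a := b) (pow_mem hN _)
    ⟨1, orderOf_dvd_iff_pow_eq_one.1 (by rw [pow_one, hbo])⟩ hrX hnil
  have hox : orderOf x = r := (P.orderOf_eq_of_commute hg hx hx1 hbX hxb).2.symm.trans hbo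
  -- `x` normalises the component of `a`, and its commutator with `a` lies in both components
  have hxN : x ∈ normalizer (P.comp a : Set G) :=
    P.normalizer_of_commute ha1 (pow_mem (P.mem a ha1) _) hb1 hxb
  have hc : x * a * x⁻¹ * a⁻¹ = 1 := by
    by_contra hne
    have h1 : x * a * x⁻¹ * a⁻¹ ∈ P.comp a :=
      mul_mem ((Subgroup.mem_normalizer_iff.1 hxN a).1 (P.mem a ha1)) (inv_mem (P.mem a ha1))
    have h2 : x * a * x⁻¹ * a⁻¹ ∈ P.comp g := by
      rw [mul_assoc x a, mul_assoc x (a * x⁻¹)]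
      exact mul_mem hx ((Subgroup.mem_normalizer_iff.1 hN _).1 (inv_mem hx))
    have := (P.eq_of_mem a _ ha1 hne h1).symm.trans (P.eq_of_mem g _ hg hne h2)
    exact ha (this ▸ P.mem a ha1)
  rw [mul_inv_eq_one, mul_inv_eq_iff_eq_mul] at hc
  rw [(P.orderOf_eq_of_commute hg hx hx1 ha hc).2, hox]

/-- The partition induced on a subgroup. -/
def restrict (H : Subgroup G) (hH : ∀ h : G, h ≠ 1 → ¬ H ≤ P.comp h) : Part H where
  comp h := (P.comp h).subgroupOf H
  mem h hh := mem_subgroupOf.2 (P.mem _ fun e => hh (Subtype.ext e))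
  eq_of_mem g h hg hh hm := by
    rw [P.eq_of_mem _ _ (fun e => hg (Subtype.ext e)) (fun e => hh (Subtype.ext e))
      (mem_subgroupOf.1 hm)]
  conj a g hg x hx := mem_subgroupOf.2 (P.conj a g (fun e => hg (Subtype.ext e)) x (mem_subgroupOf.1 hx))
  ne_top g hg h := hH g (fun e => hg (Subtype.ext e)) (subgroupOf_eq_top.1 h)

theorem comp_restrict {H : Subgroup G} (hH : ∀ h : G, h ≠ 1 → ¬ H ≤ P.comp h) (h : H) :
    (P.restrict H hH).comp h = (P.comp h).subgroupOf H := rfl

end Part

/-- All components are nilpotent. -/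
def Part.Nilp (P : Part G) : Prop := ∀ g : G, g ≠ 1 → Group.IsNilpotent (P.comp g)

/-- No nontrivial solvable normal subgroups. -/
def Semi (G : Type u) [Group G] : Prop :=
  ∀ R : Subgroup G, R.Normal → Group.IsSolvable R → R = ⊥

theorem Semi.not_solvable (h : Semi G) [Nontrivial G] : ¬ Group.IsSolvable G := fun hs => by
  haveI := hs
  exact (top_ne_bot (α := Subgroup G)) (h ⊤ inferInstance inferInstance)

theorem solvable_of_nilpotent {H : Subgroup G} (h : Group.IsNilpotent H) : Group.IsSolvable H := by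
  haveI := h
  infer_instance

theorem Semi.not_le (h : Semi G) {H : Subgroup G} (hn : H.Normal) (hH : H ≠ ⊥) {X : Subgroup G}
    (hX : Group.IsNilpotent X) : ¬ H ≤ X := fun hle =>
  hH (h H hn (solvable_of_nilpotent (CfsgLib.Comp.isNilpotent_of_le hle hX)))

theorem Semi.two_dvd [Finite G] [Nontrivial G] (h : Semi G) : 2 ∣ Nat.card G := by
  by_contra hc
  exact h.not_solvable (CfsgLib.OddEnd.odd_solvable G (Nat.odd_iff.2 (Nat.two_dvd_ne_zero.1 hc)))

theorem solvable_subgroup_of_odd [Finite G] {H : Subgroup G} (h : Odd (Nat.card H)) :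
    Group.IsSolvable H :=
  CfsgLib.OddEnd.odd_solvable H h

/-- Normal subgroups inherit the absence of solvable normal subgroups. -/
theorem Semi.subgroup [Finite G] (h : Semi G) (K : Subgroup G) [hK : K.Normal] : Semi K := by
  intro R hR hRs
  obtain ⟨hQn, hQs⟩ := CfsgLib.Solvable.sSup_normal_spec (G := K)
    (fun N => Group.IsSolvable N) (inferInstance) fun M N hM hN hMs hNs => by
      haveI := hN
      exact CfsgLib.Comp.isSolvable_sup hNs hMs
  set Q := sSup {N : Subgroup K | N.Normal ∧ Group.IsSolvable N}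
  have hRQ : R ≤ Q := le_sSup ⟨hR, hRs⟩
  haveI := hQn
  haveI := hQs
  have hinv : ∀ g : G, Q.map (MulAut.conjNormal (H := K) g).toMonoidHom ≤ Q := fun g =>
    le_sSup (show _ ∈ _ from ⟨hQn.map _ (MulAut.conjNormal (H := K) g).surjective,
      Group.isSolvable_of_surjective
        ((MulAut.conjNormal (H := K) g).toMonoidHom.subgroupMap_surjective Q)⟩)
  haveI hn : (Q.map K.subtype).Normal := by
    refine ⟨?_⟩
    rintro _ ⟨q, hq, rfl⟩ g
    exact ⟨MulAut.conjNormal g q, hinv g (mem_map_of_mem _ hq), by simp⟩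
  have hbot := h (Q.map K.subtype) hn
    (Group.isSolvable_of_surjective (K.subtype.subgroupMap_surjective Q))
  rw [map_eq_bot_iff_of_injective _ K.subtype_injective] at hbot
  exact eq_bot_iff.2 (hbot ▸ hRQ)

end CfsgLib.Partition
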