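import Cfsg.Agent.Partition.Tools

/-!
# Groups with a nontrivial partition: a normal component

If some component is normal then the group is a Frobenius group or its Hughes subgroup for some
prime is proper.
-/

set_option autoImplicit false
set_option linter.unusedSectionVars false
set_option linter.style.haveILetI false

namespace CfsgLib.Partition

open Subgroup
open scoped IsMulCommutative

universe u

variable {G : Type u} [Group G] [Finite G]

namespace Part

variable (P : Part G) {g : G} (hg : g ≠ 1) [hn : (P.comp g).Normal]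
  (hnil : Group.IsNilpotent (P.comp g))

include hg hn

theorem mem_norm (a : G) : a ∈ normalizer (P.comp g : Set G) := by
  rw [normalizer_eq_top]; exact mem_top a

theorem orderOf_mk {a : G} (ha : a ∉ P.comp g) :
    orderOf (QuotientGroup.mk a : G ⧸ P.comp g) = orderOf a := by
  refine Nat.dvd_antisymm (orderOf_map_dvd (QuotientGroup.mk' _) a) ?_
  refine orderOf_dvd_of_pow_eq_one (P.pow_eq_one_of_mem hg ha ?_)
  rw [← QuotientGroup.eq_one_iff]
  exact pow_orderOf_eq_one (QuotientGroup.mk a : G ⧸ P.comp g)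

theorem exists_lift {w : G ⧸ P.comp g} (hw : w ≠ 1) :
    ∃ a : G, a ∉ P.comp g ∧ (QuotientGroup.mk a : G ⧸ P.comp g) = w ∧ orderOf a = orderOf w := by
  obtain ⟨a, rfl⟩ := QuotientGroup.mk_surjective w
  have ha : a ∉ P.comp g := fun h => hw ((QuotientGroup.eq_one_iff a).2 h)
  exact ⟨a, ha, rfl, (P.orderOf_mk hg ha).symm⟩

include hnil

/-- Every element of order `r` of the quotient lies in the `r`-core. -/
theorem mem_pCore {r : ℕ} [hr : Fact r.Prime] (hrX : r ∣ Nat.card (P.comp g)) {t : G ⧸ P.comp g}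
    (ht : orderOf t = r) : t ∈ Cfsg.pCore r (G ⧸ P.comp g) := by
  classical
  -- the abelian normal subgroup
  let Z : Subgroup G :=
    { carrier := {z | z ∈ (P.comp g) ∧ z ^ r = 1 ∧ ∀ x ∈ (P.comp g), Commute z x}
      mul_mem' := fun {a b} ha hb => ⟨mul_mem ha.1 hb.1,
        by rw [(ha.2.2 b hb.1).mul_pow, ha.2.1, hb.2.1, one_mul],
        fun x hx => (ha.2.2 x hx).mul_left (hb.2.2 x hx)⟩
      one_mem' := ⟨one_mem _, one_pow _, fun x _ => Commute.one_left x⟩
      inv_mem' := fun {a} ha => ⟨inv_mem ha.1, by rw [inv_pow, ha.2.1, inv_one],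
        fun x hx => (ha.2.2 x hx).inv_left⟩ }
  haveI hZc : IsMulCommutative Z := ⟨⟨fun a b => Subtype.ext (a.2.2.2 b b.2.1)⟩⟩
  haveI hZn : Z.Normal := ⟨fun z hz a => ⟨hn.conj_mem z hz.1 a, by rw [conj_pow, hz.2.1]; simp,
    fun x hx => by
      have h := (hz.2.2 _ (by simpa using hn.conj_mem x hx a⁻¹)).map (MulAut.conj a)
      simpa [mul_assoc] using h⟩⟩
  haveI := hnil
  obtain ⟨Q⟩ := (inferInstance : Nonempty (Sylow r (P.comp g)))
  haveI : (Q : Subgroup (P.comp g)).Normal :=
    Q.normal_of_normalizerCondition Group.normalizerCondition_of_isNilpotent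
  obtain ⟨z₀, hz₀, hz₀'⟩ : ∃ z : G, z ∈ Z ∧ z ≠ 1 := by
    have hne := CfsgLib.PGroupBasic.inf_center_ne_bot _ (Q.ne_bot_of_dvd_card hrX)
    have hp : IsPGroup r ((Q : Subgroup (P.comp g)) ⊓ center (P.comp g) : Subgroup (P.comp g)) := Q.2.to_le inf_le_left
    obtain ⟨z, hz⟩ := exists_prime_orderOf_dvd_card' (G := ((Q : Subgroup (P.comp g)) ⊓ center (P.comp g) : Subgroup (P.comp g))) r
      (hp.card_eq_or_dvd.resolve_left fun e => hne (card_eq_one.1 e))
    have hord : orderOf ((z : (P.comp g)) : G) = r := by rw [Subgroup.orderOf_coe, Subgroup.orderOf_coe, hz]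
    refine ⟨(z : (P.comp g)), ⟨(z : (P.comp g)).2, (orderOf_dvd_iff_pow_eq_one.1 (dvd_of_eq hord)), fun x hx => ?_⟩, fun e => ?_⟩
    · exact (congrArg Subtype.val (mem_center_iff.1 (mem_inf.1 z.2).2 ⟨x, hx⟩)).symm
    · rw [e, orderOf_one] at hord
      exact hr.out.ne_one hord.symm
  have hker : (P.comp g) ≤ (MulAut.conjNormal (H := Z)).ker := fun x hx => by
    refine MulEquiv.ext fun z => Subtype.ext ?_
    rw [MulAut.conjNormal_apply, MulAut.one_apply, ← (z.2.2.2 x hx).eq, mul_inv_cancel_right]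
  set φ : G ⧸ (P.comp g) →* MulAut Z := QuotientGroup.lift (P.comp g) MulAut.conjNormal hker
  have hφ : ∀ (a : G) (z : Z), ((φ (QuotientGroup.mk a) z : Z) : G) = a * z * a⁻¹ := fun a z =>
    MulAut.conjNormal_apply a z
  have hZr : ∀ z : Z, z ≠ 1 → orderOf (z : G) = r := fun z hz =>
    orderOf_eq_prime z.2.2.1 fun e => hz (Subtype.ext e)
  -- fixed points of lifts
  have hfix : ∀ (w : G ⧸ (P.comp g)) (z : Z), w ≠ 1 → φ w z = z → z ≠ 1 → orderOf w = r := by
    intro w z hw he hz
    obtain ⟨a, ha, rfl, hao⟩ := P.exists_lift hg hw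
    have hc : Commute (z : G) a := by
      have h1 := congrArg Subtype.val he
      rw [hφ] at h1
      exact (mul_inv_eq_iff_eq_mul.1 h1).symm
    rw [← hao, (P.orderOf_eq_of_commute hg z.2.1 (fun e => hz (Subtype.ext e)) ha hc).2, hZr z hz]
  have hR3 : ∀ w : G ⧸ (P.comp g), r ∣ orderOf w → orderOf w = r := by
    intro w hw
    have hw1 : w ≠ 1 := fun e => by
      rw [e, orderOf_one] at hw; exact hr.out.ne_one (Nat.dvd_one.1 hw)
    obtain ⟨a, ha, -, hao⟩ := P.exists_lift hg hw1
    rw [← hao]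
    exact P.orderOf_eq_prime_of_dvd hg (P.mem_norm hg a) ha hrX (hao.symm ▸ hw) hnil
  -- no element of order `r` acts on a nontrivial subgroup of order prime to `r`
  have no_pair : ∀ (W : Subgroup (G ⧸ (P.comp g))) (u : G ⧸ (P.comp g)), (Nat.card W).Coprime r → W ≠ ⊥ →
      orderOf u = r → u ∈ normalizer (W : Set (G ⧸ (P.comp g))) → False := by
    intro W u hW hW1 hu huW
    have hcoW : ∀ w ∈ W, (orderOf w).Coprime r := fun w hw =>
      hW.coprime_dvd_left (Subgroup.orderOf_dvd_natCard W hw)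
    have h := pow_card_eq_one_of_norm φ W hr.out.pos huW
      (fun z hz => by
        by_contra hz1
        obtain ⟨w, hw, hw1⟩ := (bot_or_exists_ne_one _).resolve_left hW1
        have := hfix w z hw1 (hz w hw) hz1
        exact hr.out.ne_one ((Nat.coprime_self r).1 (this ▸ hcoW w hw)))
      (fun w hw i hi hir hc => by
        by_contra hw1
        have hui : orderOf (u ^ i) = r := by
          refine orderOf_eq_prime (by rw [← pow_mul, mul_comm, pow_mul, ← hu, pow_orderOf_eq_one, one_pow]) ?_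
          intro e
          have := orderOf_dvd_of_pow_eq_one e
          rw [hu] at this
          exact Nat.not_dvd_of_pos_of_lt hi hir this
        have ho := hc.orderOf_mul_eq_mul_orderOf_of_coprime (by rw [hui]; exact hcoW w hw)
        rw [hui] at ho
        have h1 := hR3 (w * u ^ i) (ho ▸ dvd_mul_left _ _)
        rw [ho] at h1
        exact hw1 (orderOf_eq_one_iff.1 (Nat.eq_of_mul_eq_mul_right hr.out.pos (by rw [h1, one_mul]))))
      (fun z => by
        obtain ⟨a, ha, rfl, hao⟩ := P.exists_lift hg (w := u) fun e => by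
          rw [e, orderOf_one] at hu; exact hr.out.ne_one hu.symm
        have hind : ∀ n : ℕ, ((∏ i ∈ Finset.range n,
            φ ((QuotientGroup.mk a : G ⧸ (P.comp g)) ^ i) z : Z) : G) * a ^ n = ((z : G) * a) ^ n := by
          intro n
          induction n with
          | zero => simp
          | succ n ih =>
            rw [Finset.prod_range_succ, Subgroup.coe_mul, ← QuotientGroup.mk_pow, hφ, pow_succ,
              pow_succ ((z : G) * a), ← ih]
            group
        have har : a ^ r = 1 := by rw [← hu, ← hao, pow_orderOf_eq_one]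
        have h1 := hind r
        rw [har, mul_one, P.mul_pow_eq_one hg (P.mem_norm hg a) ha z.2.1 (har ▸ one_mem _)] at h1
        exact Subtype.ext h1)
      ⟨z₀, hz₀⟩
    have h1 : z₀ ^ Nat.card W = 1 := congrArg Subtype.val h
    refine hr.out.ne_one (Nat.eq_one_of_dvd_coprimes hW ?_ dvd_rfl)
    rw [← hZr ⟨z₀, hz₀⟩ fun e => hz₀' (congrArg Subtype.val e)]
    exact orderOf_dvd_of_pow_eq_one h1
  by_contra htc
  rcases hr.out.eq_two_or_odd' with rfl | hrodd
  · obtain ⟨h, hh1, hodd, hth⟩ := CfsgLib.Invol.exists_inverted_odd t ht htc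
    refine no_pair (zpowers h) t (by rw [Nat.card_zpowers]; exact Nat.coprime_two_right.2 hodd)
      (zpowers_ne_bot.2 hh1) ht (Subgroup.mem_normalizer_iff.2 fun x => ⟨fun hx => ?_, fun hx => ?_⟩)
    · obtain ⟨k, rfl⟩ := mem_zpowers_iff.1 hx
      rw [CfsgLib.Invol.conj_zpow_of_inverts hth]
      first | exact inv_mem (zpow_mem (mem_zpowers h) _) | exact zpow_mem (inv_mem (mem_zpowers h)) _ | exact zpow_mem (mem_zpowers h) _
    · obtain ⟨k, hk⟩ := mem_zpowers_iff.1 hx
      refine mem_zpowers_iff.2 ⟨-k, ?_⟩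
      have h2 := congrArg (fun s => t * s * t⁻¹) hk
      beta_reduce at h2
      rw [CfsgLib.Invol.conj_zpow_of_inverts hth] at h2
      rw [show t * (t * x * t⁻¹) * t⁻¹ = (t * t) * x * (t * t)⁻¹ by group,
        CfsgLib.Invol.mul_self_eq_one ht, one_mul, inv_one, mul_one] at h2
      rw [← h2]
  · haveI := (CfsgLib.Solvable.pCore_spec (G := G ⧸ (P.comp g)) r).1
    rcases Nat.even_or_odd (Nat.card (G ⧸ (P.comp g))) with heven | hodd
    · -- an involution is central modulo the kernel of the action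
      haveI : Fact (Nat.Prime 2) := ⟨Nat.prime_two⟩
      obtain ⟨i, hi⟩ := exists_prime_orderOf_dvd_card' 2 (even_iff_two_dvd.1 heven)
      have hr2 : r ≠ 2 := fun e => Nat.not_even_iff_odd.2 hrodd (e ▸ even_two)
      have hinv : ∀ z : Z, φ i z = z⁻¹ := fun z =>
        CfsgLib.Frobenius.fpf_inv (φ i) (fun z hz => by
          by_contra hz1
          exact hr2 ((hfix i z (CfsgLib.Invol.ne_one hi) hz hz1).symm.trans hi))
          (by rw [← map_mul, CfsgLib.Invol.mul_self_eq_one hi, map_one]) z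
      set K := φ.ker
      have hKp : IsPGroup r K := fun k => by
        by_cases hk : k = 1
        · exact ⟨0, by simp [hk]⟩
        refine ⟨1, Subtype.ext ?_⟩
        have ho := hfix k ⟨z₀, hz₀⟩ (fun e => hk (Subtype.ext e))
          (by rw [MonoidHom.mem_ker.1 k.2, MulAut.one_apply]) fun e => hz₀' (congrArg Subtype.val e)
        rw [SubgroupClass.coe_pow, pow_one]
        exact ho ▸ pow_orderOf_eq_one (k : G ⧸ (P.comp g))
      have hKc : K ≤ Cfsg.pCore r (G ⧸ (P.comp g)) := CfsgLib.Solvable.le_pCore r inferInstance hKp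
      have hcomm : i * t * i⁻¹ * t⁻¹ ∈ K := by
        rw [MonoidHom.mem_ker, map_mul, map_mul, map_mul, map_inv, map_inv, mul_inv_eq_one,
          mul_inv_eq_iff_eq_mul]
        refine MulEquiv.ext fun z => ?_
        rw [MulAut.mul_apply, MulAut.mul_apply, hinv, hinv, map_inv]
      set T := K ⊔ zpowers t
      have hTp : IsPGroup r T := IsPGroup.to_sup_of_normal_left hKp
        (IsPGroup.of_card (n := 1) (by rw [Nat.card_zpowers, ht, pow_one]))
      have hTi : ∀ x ∈ T, i * x * i⁻¹ ∈ T := by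
        have hle : T ≤ T.comap (MulAut.conj i).toMonoidHom := by
          refine sup_le (fun x hx => mem_comap.2 (mem_sup_left ?_)) (zpowers_le.2 (mem_comap.2 ?_))
          · exact (MonoidHom.normal_ker φ).conj_mem x hx i
          · have h2 := mul_mem (mem_sup_left (T := zpowers t) hcomm) (mem_sup_right (S := K) (mem_zpowers t))
            rw [inv_mul_cancel_right] at h2
            exact h2
        exact fun x hx => mem_comap.1 (hle hx)
      let σ : MulAut T :=
        { toFun := fun x => ⟨i * x * i⁻¹, hTi x x.2⟩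
          invFun := fun x => ⟨i * x * i⁻¹, hTi x x.2⟩
          left_inv := fun x => Subtype.ext (by
            show i * (i * (x : G ⧸ (P.comp g)) * i⁻¹) * i⁻¹ = x
            rw [show i * (i * (x : G ⧸ (P.comp g)) * i⁻¹) * i⁻¹ = (i * i) * x * (i * i)⁻¹ by group,
              CfsgLib.Invol.mul_self_eq_one hi, one_mul, inv_one, mul_one])
          right_inv := fun x => Subtype.ext (by
            show i * (i * (x : G ⧸ (P.comp g)) * i⁻¹) * i⁻¹ = x
            rw [show i * (i * (x : G ⧸ (P.comp g)) * i⁻¹) * i⁻¹ = (i * i) * x * (i * i)⁻¹ by group,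
              CfsgLib.Invol.mul_self_eq_one hi, one_mul, inv_one, mul_one])
          map_mul' := fun x y => Subtype.ext (by simp [mul_assoc]) }
      have hσ := CfsgLib.Frobenius.fpf_inv σ (fun x hx => by
        by_contra hx1
        have hc : Commute i (x : G ⧸ (P.comp g)) := mul_inv_eq_iff_eq_mul.1 (congrArg Subtype.val hx)
        obtain ⟨k, hk⟩ := IsPGroup.iff_orderOf.1 hTp x
        rw [← Subgroup.orderOf_coe] at hk
        rcases k with _ | k
        · exact hx1 (Subtype.ext (orderOf_eq_one_iff.1 (by simpa using hk)))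
        have ho := hc.orderOf_mul_eq_mul_orderOf_of_coprime (by
          rw [hi, hk]; exact ((Nat.coprime_primes Nat.prime_two hr.out).2 hr2.symm).pow_right _)
        rw [hi, hk] at ho
        have h1 := hR3 (i * x) (ho ▸ dvd_mul_of_dvd_right (dvd_pow_self _ (Nat.succ_ne_zero k)) _)
        rw [ho] at h1
        have : r ≤ r ^ (k + 1) := Nat.le_self_pow (Nat.succ_ne_zero k) r
        have := hr.out.pos
        omega)
        (MulEquiv.ext fun x => Subtype.ext (by
            show i * (i * (x : G ⧸ (P.comp g)) * i⁻¹) * i⁻¹ = x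
            rw [show i * (i * (x : G ⧸ (P.comp g)) * i⁻¹) * i⁻¹ = (i * i) * x * (i * i)⁻¹ by group,
              CfsgLib.Invol.mul_self_eq_one hi, one_mul, inv_one, mul_one]))
        ⟨t, mem_sup_right (mem_zpowers t)⟩
      have hσ' : i * t * i⁻¹ = t⁻¹ := congrArg Subtype.val hσ
      rw [hσ'] at hcomm
      -- a square root
      obtain ⟨m, hm⟩ := hrodd
      refine htc (hKc ?_)
      have h2 : t = (t⁻¹ * t⁻¹) ^ (-((m : ℤ) + 1)) := by
        rw [← pow_two, ← zpow_natCast, inv_zpow, ← zpow_neg, ← zpow_mul,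
          show (-(2 : ℕ) : ℤ) * -((m : ℤ) + 1) = ((r : ℕ) : ℤ) + 1 by push_cast [hm]; ring,
          zpow_add_one, zpow_natCast, ← ht, pow_orderOf_eq_one, one_mul]
      rw [h2]
      exact zpow_mem hcomm _
    · haveI : Group.IsSolvable (G ⧸ (P.comp g)) := CfsgLib.OddEnd.odd_solvable _ hodd
      by_cases hidx : r ∣ (Cfsg.pCore r (G ⧸ (P.comp g))).index
      · obtain ⟨q, W, v, hq, hrq, hWq, hW1, hv, hvW⟩ := exists_pair_solvable hidx
        obtain ⟨k, hk⟩ := (haveI := Fact.mk hq; IsPGroup.iff_card.1 hWq)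
        exact no_pair W v (by rw [hk]; exact ((Nat.coprime_primes hq hr.out).2 hrq.symm).pow_left k)
          hW1 hv hvW
      · refine htc ?_
        rw [← QuotientGroup.eq_one_iff, ← orderOf_eq_one_iff]
        refine Nat.eq_one_of_dvd_coprimes ((hr.out.coprime_iff_not_dvd).2 hidx) ?_ ?_
        · exact (orderOf_map_dvd (QuotientGroup.mk' (Cfsg.pCore r (G ⧸ (P.comp g)))) t).trans (dvd_of_eq ht)
        · exact orderOf_dvd_natCard _

/-- The case of a normal component. -/
theorem of_normal_comp :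
    (∃ p : ℕ, p.Prime ∧ Subgroup.closure {x : G | x ^ p ≠ 1} ≠ ⊤) ∨
      ∃ H : Subgroup G, Cfsg.IsFrobeniusComplement H := by
  classical
  have hX1 : (P.comp g) ≠ ⊥ := fun e => hg (by have := P.mem g hg; rwa [e, mem_bot] at this)
  by_cases hcop : ∀ r : ℕ, r.Prime → r ∣ Nat.card (P.comp g) → ¬ r ∣ (P.comp g).index
  · refine Or.inr (exists_frobenius_complement (P.comp g) hX1 (P.ne_top g hg) fun y hy hy1 a hc => ?_)
    by_contra ha
    obtain ⟨hp, he⟩ := P.orderOf_eq_of_commute hg hy hy1 ha hc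
    refine hcop _ hp (Subgroup.orderOf_dvd_natCard (P.comp g) hy) ?_
    rw [← he, ← P.orderOf_mk hg ha]
    exact orderOf_dvd_natCard _
  push Not at hcop
  obtain ⟨r, hr, hrX, hri⟩ := hcop
  haveI := Fact.mk hr
  set K := Cfsg.pCore r (G ⧸ (P.comp g)) with hK
  haveI hKn : K.Normal := (CfsgLib.Solvable.pCore_spec r).1
  have hKp : IsPGroup r K := CfsgLib.Solvable.isPGroup_pCore r
  have hR3 : ∀ a : G, a ∉ (P.comp g) → r ∣ orderOf a → orderOf a = r := fun a ha hd =>
    P.orderOf_eq_prime_of_dvd hg (P.mem_norm hg a) ha hrX hd hnil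
  obtain ⟨u, hu⟩ := exists_prime_orderOf_dvd_card' (G := G ⧸ (P.comp g)) r hri
  -- no other prime
  have huniq : ∀ s : ℕ, s.Prime → s ∣ Nat.card (P.comp g) → s ∣ (P.comp g).index → s = r := by
    intro s hs hsX hsi
    by_contra hne
    haveI := Fact.mk hs
    obtain ⟨v, hv⟩ := exists_prime_orderOf_dvd_card' (G := G ⧸ (P.comp g)) s hsi
    have hvK := P.mem_pCore hg hnil hsX hv
    have huK := P.mem_pCore hg hnil hrX hu
    haveI := (CfsgLib.Solvable.pCore_spec (G := G ⧸ (P.comp g)) s).1
    have hd : Disjoint (Cfsg.pCore s (G ⧸ (P.comp g))) K :=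
      IsPGroup.disjoint_of_ne s r hne _ _ (CfsgLib.Solvable.isPGroup_pCore s) hKp
    have hc : Commute v u := Subgroup.commute_of_normal_of_disjoint _ K inferInstance hKn hd v u hvK huK
    have ho := hc.orderOf_mul_eq_mul_orderOf_of_coprime (by
      rw [hv, hu]; exact (Nat.coprime_primes hs hr).2 hne)
    rw [hv, hu] at ho
    obtain ⟨a, ha, -, hao⟩ := P.exists_lift hg (w := v * u) fun e => by
      rw [e, orderOf_one] at ho
      exact hr.ne_one (Nat.eq_one_of_mul_eq_one_left ho.symm)
    have := hR3 a ha (by rw [hao, ho]; exact dvd_mul_left _ _)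
    rw [hao, ho] at this
    exact hs.ne_one (Nat.eq_of_mul_eq_mul_right hr.pos (by rw [this, one_mul]))
  set R := K.comap (QuotientGroup.mk' (P.comp g)) with hR
  -- elements outside `R` have order prime to `r`
  have hout : ∀ a : G, a ∉ R → ¬ r ∣ orderOf a := fun a ha hd => by
    have haX : a ∉ (P.comp g) := fun h => ha (mem_comap.2 (by
      rw [QuotientGroup.mk'_apply, (QuotientGroup.eq_one_iff a).2 h]; exact one_mem _))
    exact ha (mem_comap.2 (P.mem_pCore hg hnil hrX ((P.orderOf_mk hg haX).trans (hR3 a haX hd))))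
  by_cases hRt : R = ⊤
  · refine Or.inl ⟨r, hr, fun htop => P.ne_top g hg (eq_top_iff.2 (htop ▸ (closure_le (P.comp g)).2 ?_))⟩
    intro a ha
    by_contra haX
    refine ha ?_
    have hk : (QuotientGroup.mk a : G ⧸ (P.comp g)) ∈ K := mem_comap.1 (show a ∈ R from hRt ▸ mem_top a)
    obtain ⟨j, hj⟩ := IsPGroup.iff_orderOf.1 hKp ⟨_, hk⟩
    rw [← Subgroup.orderOf_coe, P.orderOf_mk hg haX] at hj
    rcases j with _ | j
    · exact absurd (orderOf_eq_one_iff.1 (by simpa using hj) ▸ one_mem (P.comp g)) haX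
    · rw [← hR3 a haX (hj ▸ dvd_pow_self _ (Nat.succ_ne_zero j))]
      exact pow_orderOf_eq_one a
  refine Or.inr (exists_frobenius_complement R (fun e => hX1 (eq_bot_iff.2 ?_)) hRt ?_)
  · rw [← e, hR]
    intro x hx
    exact mem_comap.2 (by rw [QuotientGroup.mk'_apply, (QuotientGroup.eq_one_iff x).2 hx]; exact one_mem _)
  intro y hy hy1 a hc
  by_contra ha
  have haX : a ∉ (P.comp g) := fun h => ha (mem_comap.2 (by
    rw [QuotientGroup.mk'_apply, (QuotientGroup.eq_one_iff a).2 h]; exact one_mem _))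
  by_cases hyX : y ∈ (P.comp g)
  · obtain ⟨hp, he⟩ := P.orderOf_eq_of_commute hg hyX hy1 haX hc
    have := huniq _ hp (Subgroup.orderOf_dvd_natCard (P.comp g) hyX) (by
      rw [← he, ← P.orderOf_mk hg haX]; exact orderOf_dvd_natCard _)
    exact hout a ha (by rw [he, this])
  · have hk : (QuotientGroup.mk y : G ⧸ (P.comp g)) ∈ K := mem_comap.1 hy
    obtain ⟨j, hj⟩ := IsPGroup.iff_orderOf.1 hKp ⟨_, hk⟩
    rw [← Subgroup.orderOf_coe, P.orderOf_mk hg hyX] at hj
    have hyr : orderOf y = r := by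
      rcases j with _ | j
      · exact absurd (orderOf_eq_one_iff.1 (by simpa using hj)) hy1
      · exact hR3 y hyX (hj ▸ dvd_pow_self _ (Nat.succ_ne_zero j))
    have hco : (orderOf (QuotientGroup.mk a : G ⧸ (P.comp g))).Coprime r := by
      rw [P.orderOf_mk hg haX]
      exact (hr.coprime_iff_not_dvd.2 (hout a ha)).symm
    have hyo : orderOf (QuotientGroup.mk y : G ⧸ (P.comp g)) = r := (P.orderOf_mk hg hyX).trans hyr
    have ho := ((hc.symm.map (QuotientGroup.mk' (P.comp g)))).orderOf_mul_eq_mul_orderOf_of_coprime (by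
      rw [QuotientGroup.mk'_apply, QuotientGroup.mk'_apply, hyo]; exact hco)
    rw [QuotientGroup.mk'_apply, QuotientGroup.mk'_apply, hyo, ← QuotientGroup.mk_mul,
      P.orderOf_mk hg haX] at ho
    have hayX : a * y ∉ (P.comp g) := fun h => by
      rw [(QuotientGroup.eq_one_iff _).2 h, orderOf_one] at ho
      exact hr.ne_one (Nat.eq_one_of_mul_eq_one_left ho.symm)
    rw [P.orderOf_mk hg hayX] at ho
    have := hR3 (a * y) hayX (ho ▸ dvd_mul_left _ _)
    rw [ho] at this
    have h1 : orderOf a = 1 := Nat.eq_of_mul_eq_mul_right hr.pos (by rw [this, one_mul])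
    exact haX (orderOf_eq_one_iff.1 h1 ▸ one_mem (P.comp g))

end Part

end CfsgLib.Partition
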