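import Cfsg.Agent.Partition.Basic
import Cfsg.Agent.Invol.StrongEmbedded
import Cfsg.Agent.FrobSystem.Main
import Cfsg.Agent.SameFix.ZassIso
import Cfsg.Agent.Solvable.FpfComplement
import Cfsg.Agent.Solvable.FrobeniusConj
import Cfsg.Agent.Solvable.PGroupBasic
import Cfsg.Agent.NormCyclic.Main

/-!
# Groups with a nontrivial partition: a component containing a Sylow 2-subgroup

Without solvable normal subgroups, such a component contains the centralisers of its nontrivial
elements, so that the group is a simple Zassenhaus group of odd degree.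
-/

set_option autoImplicit false
set_option linter.unusedSectionVars false
set_option linter.style.haveILetI false

namespace CfsgLib.Partition

open Subgroup
open CfsgLib.StrongEmbed
open scoped IsMulCommutative

universe u

variable {G : Type u} [Group G] [Finite G]

theorem conj_invol_ne_one {G : Type*} [Group G] {d : G} {r : ℕ} (hr : Odd r) (hd : d ^ r = 1)
    (h : d * d = 1) : d = 1 := by
  obtain ⟨k, rfl⟩ := hr
  rwa [pow_succ, pow_mul, pow_two, h, one_pow, one_mul] at hd

namespace Part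

variable (P : Part G) (hnil : P.Nilp) (hs : Semi G) [Nontrivial G] (S : Sylow 2 G) {g : G}
  (hg : g ≠ 1) (hS : (S : Subgroup G) ≤ P.comp g)

include hnil hs hg hS

theorem two_dvd_comp : 2 ∣ Nat.card (P.comp g) := by
  haveI : Fact (Nat.Prime 2) := ⟨Nat.prime_two⟩
  exact (S.2.card_eq_or_dvd.resolve_left fun e =>
    S.ne_bot_of_dvd_card hs.two_dvd (card_eq_one.1 e)).trans (card_dvd_of_le hS)

theorem odd_relIndex : Odd ((P.comp g).relIndex (normalizer (P.comp g : Set G))) := by
  haveI : Fact (Nat.Prime 2) := ⟨Nat.prime_two⟩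
  refine Nat.odd_iff.2 (Nat.two_dvd_ne_zero.1 fun h => S.not_dvd_index ?_)
  exact h.trans ((relIndex_dvd_index_of_le le_normalizer).trans (index_dvd_of_le hS))

theorem invol_mem_comp {t : G} (ht : t ∈ normalizer (P.comp g : Set G)) (ht2 : orderOf t = 2) :
    t ∈ P.comp g := by
  haveI : ((P.comp g).subgroupOf (normalizer (P.comp g : Set G))).Normal :=
    ⟨fun x hx a => (Subgroup.mem_normalizer_iff.1 a.2 _).1 hx⟩
  have h1 : orderOf (QuotientGroup.mk ⟨t, ht⟩ :
      (normalizer (P.comp g : Set G)) ⧸ (P.comp g).subgroupOf (normalizer (P.comp g : Set G))) = 1 :=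
    Nat.eq_one_of_dvd_coprimes (Nat.coprime_two_left.2 (P.odd_relIndex hnil hs S hg hS))
      ((orderOf_map_dvd (QuotientGroup.mk' _) _).trans (dvd_of_eq (by rw [Subgroup.orderOf_mk, ht2])))
      (orderOf_dvd_natCard _)
  exact mem_subgroupOf.1 ((QuotientGroup.eq_one_iff _).1 (orderOf_eq_one_iff.1 h1))

theorem normalizer_ne_top : normalizer (P.comp g : Set G) ≠ ⊤ := fun e =>
  hs.not_le (normalizer_eq_top_iff.1 e) (fun e' => hg (by
    have h := P.mem g hg; rwa [e', mem_bot] at h)) (hnil g hg) le_rfl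

theorem strong : Cfsg.IsStronglyEmbedded (normalizer (P.comp g : Set G)) := by
  haveI : Fact (Nat.Prime 2) := ⟨Nat.prime_two⟩
  refine ⟨P.normalizer_ne_top hnil hs S hg hS, even_iff_two_dvd.2
    ((P.two_dvd_comp hnil hs S hg hS).trans (card_dvd_of_le le_normalizer)), fun a ha => ?_⟩
  refine Nat.not_even_iff_odd.1 fun he => ha ?_
  obtain ⟨t, ht⟩ := exists_prime_orderOf_dvd_card' 2 (even_iff_two_dvd.1 he)
  rw [← Subgroup.orderOf_coe] at ht
  obtain ⟨htM, htg⟩ := mem_inf_conj_iff.1 t.2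
  have h1 := P.invol_mem_comp hnil hs S hg hS htM ht
  have h2 := P.invol_mem_comp hnil hs S hg hS htg (by
    rw [show a⁻¹ * (t : G) * a = a⁻¹ * t * a⁻¹⁻¹ by rw [inv_inv], CfsgLib.Invol.orderOf_conj_eq, ht])
  simpa using inv_mem (P.mem_normalizer hg h1 (CfsgLib.Invol.ne_one ht) (a := a⁻¹)
    (by rwa [inv_inv]))

theorem normalizer_ne : normalizer (P.comp g : Set G) ≠ P.comp g := by
  intro e
  have hX1 : P.comp g ≠ ⊥ := fun e' => hg (by have h := P.mem g hg; rwa [e', mem_bot] at h)
  have hF : Cfsg.IsFrobeniusComplement (P.comp g) := ⟨hX1, P.ne_top g hg, fun a ha => by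
    refine (eq_bot_iff_forall _).2 fun x hx => by_contra fun hx1 => ha ?_
    obtain ⟨hxX, hxa⟩ := mem_inf.1 hx
    rw [mem_pointwise_smul_iff_inv_smul_mem, MulAut.smul_def, MulAut.conj_inv_apply] at hxa
    have h1 := P.mem_normalizer hg hxX hx1 (a := a⁻¹) (by rwa [inv_inv])
    rw [e] at h1
    simpa using inv_mem h1⟩
  obtain ⟨K, hK, hK1, hc, -⟩ := CfsgLib.FrobeniusConj.exists_kernel hF
  refine hK1 (hs K hK (solvable_subgroup_of_odd ?_))
  haveI : Fact (Nat.Prime 2) := ⟨Nat.prime_two⟩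
  rw [← hc.index_eq_card]
  exact Nat.odd_iff.2 (Nat.two_dvd_ne_zero.1 fun h => S.not_dvd_index (h.trans (index_dvd_of_le hS)))

theorem solvable_normalizer : Group.IsSolvable (normalizer (P.comp g : Set G)) := by
  set N := normalizer (P.comp g : Set G)
  haveI : ((P.comp g).subgroupOf N).Normal :=
    ⟨fun x hx a => (Subgroup.mem_normalizer_iff.1 a.2 _).1 hx⟩
  haveI : Group.IsSolvable ((P.comp g).subgroupOf N) := by
    haveI := solvable_of_nilpotent (hnil g hg)
    have hle : P.comp g ≤ N := le_normalizer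
    exact Group.isSolvable_of_isSolvable_injective (f := (subgroupOfEquivOfLe hle).toMonoidHom)
      (subgroupOfEquivOfLe hle).injective
  haveI : Group.IsSolvable (N ⧸ (P.comp g).subgroupOf N) :=
    CfsgLib.OddEnd.odd_solvable _ (P.odd_relIndex hnil hs S hg hS)
  exact Group.isSolvable_of_ker_le_range ((P.comp g).subgroupOf N).subtype
    (QuotientGroup.mk' ((P.comp g).subgroupOf N)) (by simp)

theorem exists_invol_out :
    ∃ u : G, orderOf u = 2 ∧ u ∉ normalizer (P.comp g : Set G) := by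
  have hH := P.strong hnil hs S hg hS
  obtain ⟨a, ha, ha2⟩ := exists_invol hH
  obtain ⟨b, -, hb⟩ := SetLike.exists_of_lt (lt_top_iff_ne_top.2 hH.1)
  refine ⟨b * a * b⁻¹, by rw [CfsgLib.Invol.orderOf_conj_eq, ha2], fun h => hb ?_⟩
  simpa using inv_mem (mem_of_conj_mem hH ha ha2 (g := b⁻¹) (by rwa [inv_inv]))

/-- All involutions of `N(X)` are central in `X`. -/
theorem invol_central {t x : G} (ht : t ∈ normalizer (P.comp g : Set G)) (ht2 : orderOf t = 2)
    (hx : x ∈ P.comp g) : Commute t x := by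
  haveI : Fact (Nat.Prime 2) := ⟨Nat.prime_two⟩
  have hH := P.strong hnil hs S hg hS
  obtain ⟨z, hzX, hz, hzc⟩ : ∃ z ∈ P.comp g, orderOf z = 2 ∧ ∀ h ∈ P.comp g, Commute h z := by
    haveI := hnil g hg
    obtain ⟨Q⟩ := (inferInstance : Nonempty (Sylow 2 (P.comp g)))
    haveI : (Q : Subgroup (P.comp g)).Normal :=
      Q.normal_of_normalizerCondition Group.normalizerCondition_of_isNilpotent
    have hne := CfsgLib.PGroupBasic.inf_center_ne_bot _
      (Q.ne_bot_of_dvd_card (P.two_dvd_comp hnil hs S hg hS))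
    obtain ⟨z, hz⟩ := exists_prime_orderOf_dvd_card'
      (G := ((Q : Subgroup (P.comp g)) ⊓ center (P.comp g) : Subgroup (P.comp g))) 2
      (((Q.2.to_le inf_le_left).card_eq_or_dvd).resolve_left fun e => hne (card_eq_one.1 e))
    exact ⟨(z : P.comp g), (z : P.comp g).2, by rwa [Subgroup.orderOf_coe, Subgroup.orderOf_coe],
      fun h hh => congrArg Subtype.val (mem_center_iff.1 (mem_inf.1 z.2).2 ⟨h, hh⟩)⟩
  obtain ⟨u, hu, huM⟩ := P.exists_invol_out hnil hs S hg hS
  obtain ⟨d, hd, hdz⟩ := exists_conj_in_stabilizer hH hu huM hz (le_normalizer hzX) ht2 ht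
  have hdM : d ∈ normalizer (P.comp g : Set G) := (mem_inf.1 hd).1
  have h1 := (hzc (d⁻¹ * x * d) ((Subgroup.mem_normalizer_iff''.1 hdM x).1 hx)).symm.map (MulAut.conj d)
  simp only [MulAut.conj_apply] at h1
  rw [hdz, show d * (d⁻¹ * x * d) * d⁻¹ = x by group] at h1
  exact h1

/-- Involutions in a common component commute. -/
theorem invol_commute {y t t' : G} (hy : y ≠ 1) (ht : t ∈ P.comp y) (ht2 : orderOf t = 2)
    (ht' : t' ∈ P.comp y) (ht2' : orderOf t' = 2) : Commute t t' := by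
  have hH := P.strong hnil hs S hg hS
  obtain ⟨z, hz, hz2⟩ := exists_invol hH
  have hzX := P.invol_mem_comp hnil hs S hg hS hz hz2
  obtain ⟨a, ha⟩ := isConj_iff.1 (isConj_of_invols hH hz2 ht2)
  have hz1 := CfsgLib.Invol.ne_one hz2
  have hcomp : P.comp t = P.comp y := P.eq_of_mem y t hy (CfsgLib.Invol.ne_one ht2) ht
  have hmem : ∀ s ∈ P.comp y, a⁻¹ * s * a ∈ P.comp g := by
    intro s hs'
    rw [← P.eq_of_mem g z hg hz1 hzX, P.conj_iff hz1 a, show a * (a⁻¹ * s * a) * a⁻¹ = s by group, ha,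
      hcomp]
    exact hs'
  have hord : ∀ s : G, orderOf s = 2 → orderOf (a⁻¹ * s * a) = 2 := fun s hs2 => by
    rw [show a⁻¹ * s * a = a⁻¹ * s * a⁻¹⁻¹ by rw [inv_inv], CfsgLib.Invol.orderOf_conj_eq, hs2]
  have h := (P.invol_central hnil hs S hg hS (le_normalizer (hmem t ht)) (hord t ht2) (hmem t' ht')).map
    (MulAut.conj a)
  simpa [mul_assoc] using h

/-- The component contains the centralisers of its nontrivial elements. -/
theorem kcent {x b : G} (hx : x ∈ P.comp g) (hx1 : x ≠ 1) (hxb : Commute x b) : b ∈ P.comp g := by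
  classical
  by_contra hb
  haveI : Fact (Nat.Prime 2) := ⟨Nat.prime_two⟩
  have hH := P.strong hnil hs S hg hS
  have hinX := fun {t : G} => P.invol_mem_comp hnil hs S hg hS (t := t)
  set M := normalizer (P.comp g : Set G) with hM
  have hXM : P.comp g ≤ M := le_normalizer
  have hbM : b ∈ M := P.normalizer_of_commute hg hx hx1 hxb.symm
  obtain ⟨hrp, hbo⟩ := P.orderOf_eq_of_commute hg hx hx1 hb hxb
  set r := orderOf x with hrdef
  haveI := Fact.mk hrp
  have hr2 : r ≠ 2 := fun e => hb (hinX hbM (hbo.trans e))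
  have hrodd : Odd r := hrp.odd_of_ne_two hr2
  have hrX : r ∣ Nat.card (P.comp g) := hrdef ▸ Subgroup.orderOf_dvd_natCard _ hx
  have hR3 : ∀ a ∈ M, a ∉ P.comp g → r ∣ orderOf a → orderOf a = r := fun a ha ha' hd =>
    P.orderOf_eq_prime_of_dvd hg ha ha' hrX hd (hnil g hg)
  -- elements outside the component do not commute with involutions
  have hfpf : ∀ a ∈ M, a ∉ P.comp g → ∀ t ∈ P.comp g, orderOf t = 2 → ¬ Commute t a := by
    intro a ha ha' t ht ht2 hc
    exact ha' (hinX ha ((P.orderOf_eq_of_commute hg ht (CfsgLib.Invol.ne_one ht2) ha' hc).2.trans ht2))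
  -- the quotient
  set X' := (P.comp g).subgroupOf M
  haveI hX'n : X'.Normal := ⟨fun y hy a => (Subgroup.mem_normalizer_iff.1 a.2 _).1 hy⟩
  have hmk : ∀ a : M, (a : G) ∉ P.comp g → orderOf (QuotientGroup.mk a : M ⧸ X') = orderOf (a : G) := by
    intro a ha
    rw [Subgroup.orderOf_coe]
    refine Nat.dvd_antisymm (orderOf_map_dvd (QuotientGroup.mk' X') a) (orderOf_dvd_of_pow_eq_one ?_)
    refine Subtype.ext ?_
    rw [SubgroupClass.coe_pow]
    refine P.pow_eq_one_of_mem hg ha ?_
    have h1 : ((a ^ orderOf (QuotientGroup.mk a : M ⧸ X') : M) : G) ∈ P.comp g :=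
      mem_subgroupOf.1 ((QuotientGroup.eq_one_iff _).1 (by rw [QuotientGroup.mk_pow, pow_orderOf_eq_one]))
    rwa [SubgroupClass.coe_pow] at h1
  have hlift : ∀ q : M ⧸ X', q ≠ 1 →
      ∃ a : M, (a : G) ∉ P.comp g ∧ (QuotientGroup.mk a : M ⧸ X') = q ∧ orderOf (a : G) = orderOf q := by
    intro q hq
    obtain ⟨a, rfl⟩ := QuotientGroup.mk_surjective q
    have ha : (a : G) ∉ P.comp g := fun h => hq ((QuotientGroup.eq_one_iff a).2 (mem_subgroupOf.2 h))
    exact ⟨a, ha, rfl, (hmk a ha).symm⟩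
  -- a fixed point free action on the involutions of the component
  let A : Subgroup M :=
    { carrier := {a | (a : G) ∈ P.comp g ∧ (a : G) * a = 1}
      mul_mem' := fun {a c} ha hc => ⟨mul_mem ha.1 hc.1, by
        by_cases ha1 : (a : G) = 1
        · rw [Subgroup.coe_mul, ha1, one_mul, hc.2]
        have h := P.invol_central hnil hs S hg hS a.2 (CfsgLib.Invol.orderOf_eq_two ha.2 ha1) hc.1
        rw [Subgroup.coe_mul, show (a : G) * c * (a * c) = a * (c * a) * c by group, ← h.eq,
          show (a : G) * (a * c) * c = (a * a) * (c * c) by group, ha.2, hc.2, one_mul]⟩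
      one_mem' := ⟨one_mem _, by simp⟩
      inv_mem' := fun {a} ha => ⟨inv_mem ha.1, by
        rw [Subgroup.coe_inv, ← mul_inv_rev, ha.2, inv_one]⟩ }
  haveI : A.Normal := ⟨fun a ha c => ⟨(Subgroup.mem_normalizer_iff.1 c.2 _).1 ha.1, by
    rw [Subgroup.coe_mul, Subgroup.coe_mul, Subgroup.coe_inv,
      show (c : G) * a * (c : G)⁻¹ * (c * a * (c : G)⁻¹) = c * (a * a) * (c : G)⁻¹ by group, ha.2]
    group⟩⟩
  have hker : X' ≤ (MulAut.conjNormal (H := A)).ker := fun y hy => by
    refine MulEquiv.ext fun a => Subtype.ext (Subtype.ext ?_)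
    rw [MulAut.conjNormal_apply, MulAut.one_apply, Subgroup.coe_mul, Subgroup.coe_mul, Subgroup.coe_inv]
    by_cases ha1 : ((a : M) : G) = 1
    · rw [ha1]; group
    have h := P.invol_central hnil hs S hg hS (a : M).2 (CfsgLib.Invol.orderOf_eq_two a.2.2 ha1)
      (mem_subgroupOf.1 hy)
    rw [← h.eq, mul_inv_cancel_right]
  set φ : M ⧸ X' →* MulAut A := QuotientGroup.lift X' MulAut.conjNormal hker
  have hφ : CfsgLib.Frobenius.IsFpf φ := by
    intro q hq k hk
    obtain ⟨a, ha, rfl, -⟩ := hlift q hq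
    by_contra hk1
    have hk1' : ((k : M) : G) ≠ 1 := fun e => hk1 (Subtype.ext (Subtype.ext e))
    have h1 : ((a : M) : G) * (k : M) * (a : G)⁻¹ = (k : M) := by
      have := congrArg (fun t : A => ((t : M) : G)) hk
      simpa [φ, MulAut.conjNormal_apply] using this
    exact hfpf a a.2 ha _ k.2.1 (CfsgLib.Invol.orderOf_eq_two k.2.2 hk1')
      (mul_inv_eq_iff_eq_mul.1 h1).symm
  obtain ⟨z, hzM, hz2⟩ := exists_invol hH
  have hzX := hinX hzM hz2
  haveI : Nontrivial A := ⟨⟨⟨z, hzM⟩, hzX, CfsgLib.Invol.mul_self_eq_one hz2⟩, 1,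
    fun e => CfsgLib.Invol.ne_one hz2 (congrArg (fun t : A => ((t : M) : G)) e)⟩
  set bq : M ⧸ X' := QuotientGroup.mk ⟨b, hbM⟩ with hbq
  have hbqo : orderOf bq = r := (hmk ⟨b, hbM⟩ hb).trans hbo
  have hbq1 : bq ≠ 1 := fun e => by rw [e, orderOf_one] at hbqo; exact hrp.ne_one hbqo.symm
  haveI : Nontrivial (M ⧸ X') := ⟨⟨bq, 1, hbq1⟩⟩
  have hnoprod : ∀ v w : M ⧸ X', Commute v w → r ∣ orderOf v → ∀ s : ℕ, s.Prime → orderOf w = s → s = r := by
    intro v w hc hv s hsp hw
    by_contra hne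
    have hv1 : v ≠ 1 := fun e => by rw [e, orderOf_one] at hv; exact hrp.ne_one (Nat.dvd_one.1 hv)
    obtain ⟨a, ha, -, hao⟩ := hlift v hv1
    have hvr : orderOf v = r := hao ▸ hR3 a a.2 ha (hao.symm ▸ hv)
    have ho := hc.orderOf_mul_eq_mul_orderOf_of_coprime (by
      rw [hvr, hw]; exact (Nat.coprime_primes hrp hsp).2 (Ne.symm hne))
    rw [hvr, hw] at ho
    obtain ⟨a', ha', -, hao'⟩ := hlift (v * w) fun e => by
      rw [e, orderOf_one] at ho; exact hrp.ne_one (Nat.eq_one_of_mul_eq_one_right ho.symm)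
    have h1 := hR3 a' a'.2 ha' (by rw [hao', ho]; exact dvd_mul_right _ _)
    rw [hao', ho] at h1
    exact hsp.ne_one (Nat.eq_of_mul_eq_mul_left hrp.pos (h1.trans (mul_one r).symm))
  obtain ⟨c₀, hc₀, hc₀1⟩ := (bot_or_exists_ne_one _).resolve_left (CfsgLib.FpfComplement.center_ne_bot hφ)
  have hcr : r ∣ orderOf c₀ := by
    obtain ⟨s, hsp, hsd⟩ := Nat.exists_prime_and_dvd (mt orderOf_eq_one_iff.1 hc₀1)
    have := hnoprod bq (c₀ ^ (orderOf c₀ / s)) ((Commute.pow_right
      (mem_center_iff.1 hc₀ bq) _)) (dvd_of_eq hbqo.symm) s hsp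
      (orderOf_pow_orderOf_div (orderOf_pos c₀).ne' hsd)
    exact this ▸ hsd
  have hQp : IsPGroup r (M ⧸ X') := by
    refine IsPGroup.of_card (n := (Nat.card (M ⧸ X')).primeFactorsList.length)
      (Nat.eq_prime_pow_of_unique_prime_dvd Nat.card_pos.ne' fun {s} hsp hsd => ?_)
    haveI := Fact.mk hsp
    obtain ⟨w, hw⟩ := exists_prime_orderOf_dvd_card' (G := M ⧸ X') s hsd
    exact hnoprod c₀ w (mem_center_iff.1 hc₀ w).symm hcr s hsp hw
  have hQr : Nat.card (M ⧸ X') = r := by
    haveI : IsCyclic (M ⧸ X') := (CfsgLib.UniqueInvol.cyclic_or_quaternion hQp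
      (CfsgLib.FpfComplement.unique_prime_order hφ hQp)).resolve_right fun h => hr2 h.1
    obtain ⟨c, hc⟩ := IsCyclic.exists_generator (α := M ⧸ X')
    rw [← orderOf_eq_card_of_forall_mem_zpowers hc]
    have hc1 : c ≠ 1 := fun e => hbq1 (by
      have := hc bq; rwa [e, zpowers_one_eq_bot, mem_bot] at this)
    obtain ⟨a, ha, -, hao⟩ := hlift c hc1
    obtain ⟨k, hk⟩ := IsPGroup.iff_orderOf.1 hQp c
    rcases k with _ | k
    · exact absurd (orderOf_eq_one_iff.1 (by simpa using hk)) hc1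
    · rw [← hao]; exact hR3 a a.2 ha (by rw [hao, hk]; exact dvd_pow_self _ (Nat.succ_ne_zero k))
  -- stabilisers of two points
  have hout : ∀ a ∈ M, a ∉ P.comp g → orderOf a = r := by
    intro a ha ha'
    refine hR3 a ha ha' ?_
    rw [← hmk ⟨a, ha⟩ ha']
    refine dvd_of_eq (((Nat.dvd_prime hrp).1 (dvd_trans (_root_.orderOf_dvd_natCard _) (dvd_of_eq hQr))).resolve_left fun e => ha' ?_).symm
    exact mem_subgroupOf.1 ((QuotientGroup.eq_one_iff _).1 (orderOf_eq_one_iff.1 e))
  set o : G ⧸ M := QuotientGroup.mk 1 with ho'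
  have hfree : ∀ u : G, orderOf u = 2 → u ∉ M → ∀ d : G, d ∈ M → u⁻¹ * d * u ∈ M →
      (d ∈ P.comp g → d = 1) ∧ u * d * u = d⁻¹ := by
    intro u hu huM
    have huu := CfsgLib.Invol.mul_self_eq_one hu
    have hui := CfsgLib.Invol.inv_eq_self hu
    set D : Subgroup G := M ⊓ M.map (MulAut.conj u).toMonoidHom with hD
    have hDX : ∀ a ∈ D, a ∈ P.comp g → a = 1 := by
      intro a ha haX
      by_contra ha1
      obtain ⟨haM, ha'⟩ := mem_inf_conj_iff.1 ha
      rw [hui] at ha'
      set a' := u * a * u with ha'd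
      have ha'X : a' ∉ P.comp g := fun h => huM (P.mem_normalizer hg haX ha1 (by rwa [hui]))
      have hTI : ∀ y ∈ P.comp g, u * y * u ∈ P.comp g → y = 1 := fun y hy hy' =>
        by_contra fun h => huM (P.mem_normalizer hg hy h (by rwa [hui]))
      have haa : a * a' = a' * a := by
        have h1 : a * a' * a⁻¹ * a'⁻¹ = 1 := by
          refine hTI _ ?_ ?_
          · rw [mul_assoc a a', mul_assoc a (a' * a⁻¹)]
            exact mul_mem haX ((Subgroup.mem_normalizer_iff.1 ha' _).1 (inv_mem haX))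
          · have h2 : u * (a * a' * a⁻¹ * a'⁻¹) * u = a' * a * a'⁻¹ * a⁻¹ := by
              have h : MulAut.conj u (a * a' * a⁻¹ * a'⁻¹) = MulAut.conj u a * MulAut.conj u a' *
                  (MulAut.conj u a)⁻¹ * (MulAut.conj u a')⁻¹ := by simp only [map_mul, map_inv]
              simp only [MulAut.conj_apply, hui] at h
              rw [h, ← ha'd, show u * a' * u = a by
                rw [ha'd, show u * (u * a * u) * u = (u * u) * a * (u * u) by group, huu, one_mul, mul_one]]
            rw [h2]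
            exact mul_mem ((Subgroup.mem_normalizer_iff.1 ha' a).1 haX) (inv_mem haX)
        rwa [mul_inv_eq_one, mul_inv_eq_iff_eq_mul] at h1
      have hao : a' ^ r = 1 := hout a' ha' ha'X ▸ pow_orderOf_eq_one a'
      have hao' : a ^ r = 1 := by
        have h : (MulAut.conj u) (a' ^ r) = (MulAut.conj u a') ^ r := map_pow _ _ _
        rw [hao, map_one, MulAut.conj_apply, hui, show u * a' * u = a by
          rw [ha'd, show u * (u * a * u) * u = (u * u) * a * (u * u) by group, huu, one_mul, mul_one]] at h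
        exact h.symm
      have hua : u * a * u = a' := ha'd.symm
      have hua' : u * a' * u = a := by
        rw [ha'd, show u * (u * a * u) * u = (u * u) * a * (u * u) by group, huu, one_mul, mul_one]
      obtain ⟨c, hcd⟩ : ∃ c, c = a * a' := ⟨_, rfl⟩
      have hc1 : c ≠ 1 := fun e => ha'X (by rw [← inv_eq_of_mul_eq_one_right (hcd.symm.trans e)]; exact inv_mem haX)
      have hcu : Commute c u := by
        show c * u = u * c
        calc c * u = a' * a * u := by rw [hcd, haa]
          _ = (u * a * u) * (u * a' * u) * u := by rw [hua, hua']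
          _ = u * a * (u * u) * a' * (u * u) := by group
          _ = u * c := by rw [huu, hcd]; group
      obtain ⟨d, hdd⟩ : ∃ d, d = a * a'⁻¹ := ⟨_, rfl⟩
      have hud : u * d * u = d⁻¹ := by
        calc u * d * u = (u * a * u) * (u * a' * u)⁻¹ := by
              rw [hdd, mul_inv_rev (u * a') u, mul_inv_rev u a', hui,
                show u * a * u * (u * (a'⁻¹ * u)) = u * a * (u * u) * a'⁻¹ * u by group, huu]
              group
          _ = d⁻¹ := by rw [hua, hua', hdd, mul_inv_rev, inv_inv]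
      have hcdc : Commute c d := by
        rw [hcd, hdd]
        exact ((Commute.refl a).mul_left (show Commute a' a from haa.symm)).mul_right
          (((show Commute a a' from haa).mul_left (Commute.refl a')).inv_right)
      have hiu : orderOf (d * u) = 2 := CfsgLib.Invol.orderOf_eq_two
        (by rw [mul_assoc d u, ← mul_assoc u d, hud, mul_inv_cancel]) fun e => by
        have h1 : d = u⁻¹ := eq_inv_of_mul_eq_one_left e
        have h2 : d ^ r = 1 := by rw [hdd, Commute.mul_pow (Commute.inv_right haa), hao', inv_pow, hao]; simp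
        rw [h1, hui] at h2
        exact CfsgLib.Invol.ne_one hu (conj_invol_ne_one hrodd h2 huu)
      have hcr : orderOf c = r := orderOf_eq_prime (by
        rw [hcd, Commute.mul_pow haa, hao', hao, one_mul]) hc1
      have hmem : ∀ i : G, orderOf i = 2 → Commute c i → i ∈ P.comp c := fun i hi hci =>
        P.mem_of_commute hc1 (CfsgLib.Invol.ne_one hi) hci (by rw [hi, hcr]; exact hr2.symm)
      have hcomm := P.invol_commute hnil hs S hg hS hc1 (hmem u hu hcu) hu
        (hmem _ hiu (hcdc.mul_right hcu)) hiu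
      have hdu : Commute d u := by
        show d * u = u * d
        have h1 : u * (d * u) = d * u * u := hcomm
        rw [mul_assoc d u u, huu, mul_one] at h1
        calc d * u = u * (d * u) * u := by rw [h1]
          _ = u * d := by rw [mul_assoc u, mul_assoc d, huu, mul_one]
      have hd2 : d * d = 1 := by
        rw [show u * d * u = d by rw [← hdu.eq, mul_assoc, huu, mul_one]] at hud
        exact eq_inv_iff_mul_eq_one.1 hud
      have h2 : d ^ r = 1 := by rw [hdd, Commute.mul_pow (Commute.inv_right haa), hao', inv_pow, hao]; simp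
      have := conj_invol_ne_one hrodd h2 hd2
      rw [hdd] at this
      exact ha'X ((mul_inv_eq_one.1 this) ▸ haX)
    -- the order of the stabiliser of two points
    have hle : Nat.card D ≤ r := by
      rw [← hQr]
      refine Nat.card_le_card_of_injective
        (fun d : D => (QuotientGroup.mk ⟨d, (mem_inf.1 d.2).1⟩ : M ⧸ X')) fun d e he => ?_
      have h := mem_subgroupOf.1 (QuotientGroup.eq.1 he)
      exact Subtype.ext (inv_mul_eq_one.1 (hDX _ (mul_mem (inv_mem d.2) e.2) h))
    -- involutions interchanging the two points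
    set y : G ⧸ M := QuotientGroup.mk u
    have hy : y ≠ o := fun e => huM (smul_mk_one_iff.1 (smul_mk_one_eq.trans e))
    have hr_le : r ≤ Nat.card {k : G // orderOf k = 2 ∧ k • o = y} := by
      rw [card_swap_one hH hy, ← hQr]
      have hbij : ∀ q : M ⧸ X', orderOf ((q.out : G) * z * (q.out : G)⁻¹) = 2 ∧
          (q.out : G) * z * (q.out : G)⁻¹ ∈ M := fun q =>
        ⟨by rw [CfsgLib.Invol.orderOf_conj_eq, hz2], mul_mem (mul_mem q.out.2 hzM) (inv_mem q.out.2)⟩
      refine Nat.card_le_card_of_injective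
        (fun q : M ⧸ X' => (⟨_, hbij q⟩ : {t : G // orderOf t = 2 ∧ t ∈ M})) fun q q' he => ?_
      have he' : (q.out : G) * z * (q.out : G)⁻¹ = (q'.out : G) * z * (q'.out : G)⁻¹ :=
        congrArg Subtype.val he
      rw [← QuotientGroup.out_eq' q, ← QuotientGroup.out_eq' q', QuotientGroup.eq, mem_subgroupOf]
      by_contra hne
      refine hfpf _ (q.out⁻¹ * q'.out).2 hne z hzX hz2 ?_
      show z * ((q.out⁻¹ * q'.out : M) : G) = ((q.out⁻¹ * q'.out : M) : G) * z
      rw [Subgroup.coe_mul, Subgroup.coe_inv]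
      calc z * ((q.out : G)⁻¹ * q'.out) = (q.out : G)⁻¹ * ((q.out : G) * z * (q.out : G)⁻¹) * q'.out := by group
        _ = _ := by rw [he']; group
    have huo : u • o = y := smul_mk_one_eq
    have huy : u • y = o := by rw [← huo, smul_smul, huu, one_smul]
    let f : {k : G // orderOf k = 2 ∧ k • o = y} → D := fun k => ⟨u * k.1, by
      refine mem_inf_conj_iff.2 ⟨smul_mk_one_iff.1 ?_, smul_mk_iff.1 ?_⟩
      · rw [← ho', mul_smul, k.2.2, huy]
      · show (u * k.1) • y = y
        have h := congrArg (k.1 • ·) k.2.2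
        beta_reduce at h
        rw [smul_smul, CfsgLib.Invol.mul_self_eq_one k.2.1, one_smul] at h
        rw [mul_smul, ← h, huo]⟩
    have hf : Function.Injective f := fun k k' e =>
      Subtype.ext (mul_left_cancel (a := u) (congrArg Subtype.val e : u * k.1 = u * k'.1))
    have hfb : Function.Bijective f := hf.bijective_of_nat_card_le (hle.trans hr_le)
    intro d hdM hdu
    have hdD : d ∈ D := mem_inf_conj_iff.2 ⟨hdM, hdu⟩
    refine ⟨hDX d hdD, ?_⟩
    obtain ⟨k, hk⟩ := hfb.2 ⟨d, hdD⟩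
    have hk' : d = u * k.1 := (congrArg Subtype.val hk).symm
    rw [hk', mul_inv_rev, CfsgLib.Invol.inv_eq_self k.2.1, hui,
      show u * (u * k.1) * u = u * u * (k.1 * u) by group, huu, one_mul]
  -- two fixed points
  have hpair : ∀ (d : G) (e e' : G ⧸ M), e ≠ e' → d • e = e → d • e' = e' → d ≠ 1 →
      ∀ t : G, orderOf t = 2 → t • e = e' → t * d * t = d⁻¹ ∧
        ∃ w : G, w • e = o ∧ w * d * w⁻¹ ∈ M ∧ w * d * w⁻¹ ∉ P.comp g := by
    intro d e e' hee hde hde' hd1 t ht hte
    obtain ⟨w, hw⟩ := MulAction.exists_smul_eq G e o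
    have hu2 : orderOf (w * t * w⁻¹) = 2 := by rw [CfsgLib.Invol.orderOf_conj_eq, ht]
    have huo : (w * t * w⁻¹) • o = w • e' := by rw [← hw, mul_smul, mul_smul, inv_smul_smul, hte]
    have huM : w * t * w⁻¹ ∉ M := fun h => hee (smul_left_cancel w (by
      rw [hw, ← huo]; exact (smul_mk_one_iff.2 h).symm))
    have hdM : w * d * w⁻¹ ∈ M := smul_mk_one_iff.1 (by
      rw [← ho', ← hw, mul_smul, mul_smul, inv_smul_smul, hde])
    have hdu : (w * t * w⁻¹)⁻¹ * (w * d * w⁻¹) * (w * t * w⁻¹) ∈ M := smul_mk_iff.1 (by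
      rw [← smul_mk_one_eq, ← ho', huo, mul_smul, mul_smul, inv_smul_smul, hde'])
    obtain ⟨h1, h2⟩ := hfree _ hu2 huM _ hdM hdu
    refine ⟨?_, w, hw, hdM, fun h => hd1 (conj_eq_one_iff.1 (h1 h))⟩
    have h3 := congrArg (fun s => w⁻¹ * s * w) h2
    simpa [mul_assoc] using h3
  obtain ⟨u, hu, huM⟩ := P.exists_invol_out hnil hs S hg hS
  set y : G ⧸ M := QuotientGroup.mk u
  have hy : y ≠ o := fun e => huM (smul_mk_one_iff.1 (smul_mk_one_eq.trans e))
  have huo : u • o = y := smul_mk_one_eq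
  have huy : u • y = o := by rw [← huo, smul_smul, CfsgLib.Invol.mul_self_eq_one hu, one_smul]
  set D : Subgroup G := M ⊓ M.map (MulAut.conj u).toMonoidHom with hD
  have hDX : ∀ d ∈ D, d ∈ P.comp g → d = 1 := fun d hd =>
    (hfree u hu huM d (mem_inf_conj_iff.1 hd).1 (mem_inf_conj_iff.1 hd).2).1
  -- nontrivial elements of the stabiliser act freely on the component
  have hcX : ∀ d ∈ D, d ≠ 1 → ∀ a ∈ P.comp g, Commute a d → a = 1 := by
    intro d hd hd1 a haX had
    obtain ⟨hdM, hdu⟩ := mem_inf_conj_iff.1 hd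
    have hdo : d • o = o := smul_mk_one_iff.2 hdM
    have hdy : d • y = y := smul_mk_iff.2 hdu
    let Φ := {e : G ⧸ M // d • e = e}
    have hsemi : ∀ t : G, orderOf t = 2 → t * d * t = d⁻¹ → ∀ e : Φ, t • e.1 ≠ e.1 := by
      intro t ht htd e he
      obtain ⟨e', hee', hde'⟩ : ∃ e' : G ⧸ M, e.1 ≠ e' ∧ d • e' = e' := by
        by_cases h : e.1 = o
        · exact ⟨y, h ▸ hy.symm, hdy⟩
        · exact ⟨o, h, hdo⟩
      obtain ⟨i, hi, hie⟩ := exists_swap hH hee'
      obtain ⟨-, w, hw, hwM, hwX⟩ := hpair d e.1 e' hee' e.2 hde' hd1 i hi hie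
      have ht2 : orderOf (w * t * w⁻¹) = 2 := by rw [CfsgLib.Invol.orderOf_conj_eq, ht]
      have htM : w * t * w⁻¹ ∈ M := smul_mk_one_iff.1 (by
        rw [← ho', ← hw, mul_smul, mul_smul, inv_smul_smul, he])
      have htX := hinX htM ht2
      set d' := w * d * w⁻¹
      set t' := w * t * w⁻¹
      have htd' : t' * d' * t' = d'⁻¹ := by
        have h3 := congrArg (fun s => w * s * w⁻¹) htd
        simpa [t', d', mul_assoc] using h3
      have h4 : d' * d' ∈ P.comp g := by
        have h5 : d' * d' = d' * t' * d'⁻¹ * t' := by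
          have h6 : t' * d'⁻¹ * t' = d' := by
            rw [← htd', show t' * (t' * d' * t') * t' = t' * t' * d' * (t' * t') by group,
              CfsgLib.Invol.mul_self_eq_one ht2, one_mul, mul_one]
          calc d' * d' = d' * (t' * d'⁻¹ * t') := by rw [h6]
            _ = _ := by group
        rw [h5]
        exact mul_mem ((Subgroup.mem_normalizer_iff.1 hwM t').1 htX) htX
      refine hwX ?_
      have h7 : d' ^ r = 1 := hout d' hwM hwX ▸ pow_orderOf_eq_one d'
      rw [conj_invol_ne_one hrodd h7 (by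
        rw [← pow_two]; exact P.pow_eq_one_of_mem hg hwX (by rwa [pow_two]))]
      exact one_mem _
    have hodd : Odd (Nat.card (centralizer ({d} : Set G))) := by
      refine Nat.not_even_iff_odd.1 fun he => ?_
      obtain ⟨s, hs2⟩ := exists_prime_orderOf_dvd_card' (G := centralizer ({d} : Set G)) 2 (even_iff_two_dvd.1 he)
      rw [← Subgroup.orderOf_coe] at hs2
      have hsd : Commute (s : G) d := mem_centralizer_singleton_iff.1 s.2
      obtain ⟨e, he'⟩ := exists_fix hH hs2
      have hde : d • e = e := fix_unique hH hs2 (by rw [← mul_smul, hsd.eq, mul_smul, he']) he'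
      obtain ⟨e', hee', hde'⟩ : ∃ e' : G ⧸ M, e ≠ e' ∧ d • e' = e' := by
        by_cases h : e = o
        · exact ⟨y, h ▸ hy.symm, hdy⟩
        · exact ⟨o, h, hdo⟩
      obtain ⟨i, hi, hie⟩ := exists_swap hH hee'
      obtain ⟨-, w, hw, hwM, hwX⟩ := hpair d e e' hee' hde hde' hd1 i hi hie
      have hsM : w * s * w⁻¹ ∈ M := smul_mk_one_iff.1 (by
        rw [← ho', ← hw, mul_smul, mul_smul, inv_smul_smul, he'])
      exact hfpf _ hwM hwX _ (hinX hsM (by rw [CfsgLib.Invol.orderOf_conj_eq, hs2]))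
        (by rw [CfsgLib.Invol.orderOf_conj_eq, hs2]) (hsd.map (MulAut.conj w))
    have htwo : ∀ e : G ⧸ M, d • e = e → e = o ∨ e = y := by
      intro e he
      by_contra hne
      push Not at hne
      obtain ⟨heo, hey⟩ := hne
      set C := centralizer ({d} : Set G)
      letI : MulAction C Φ :=
        { smul := fun c f => ⟨(c : G) • f.1, by
            rw [← mul_smul, ← (mem_centralizer_singleton_iff.1 c.2 : (c : G) * d = d * c), mul_smul, f.2]⟩
          one_smul := fun f => Subtype.ext (one_smul G f.1)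
          mul_smul := fun c c' f => Subtype.ext (mul_smul (c : G) (c' : G) f.1) }
      haveI : MulAction.IsPretransitive C Φ := ⟨fun f f' => by
        by_cases hff : f = f'
        · exact ⟨1, by rw [one_smul, hff]⟩
        obtain ⟨f'', h1, h2⟩ : ∃ f'' : Φ, f''.1 ≠ f.1 ∧ f''.1 ≠ f'.1 := by
          by_contra hc
          push Not at hc
          have a1 := hc ⟨o, hdo⟩
          have a2 := hc ⟨y, hdy⟩
          have a3 := hc ⟨e, he⟩
          simp only at a1 a2 a3
          by_cases o1 : o = f.1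
          · have h2 := a2 (fun h => hy (h.trans o1.symm))
            have h3 := a3 (fun h => heo (h.trans o1.symm))
            exact hey (h3.trans h2.symm)
          · have h1 := a1 o1
            by_cases y1 : y = f.1
            · exact heo ((a3 (fun h => hey (h.trans y1.symm))).trans h1.symm)
            · exact hy ((a2 y1).trans h1.symm)
        obtain ⟨i, hi, hif⟩ := exists_swap hH (x := f.1) (y := f''.1) h1.symm
        obtain ⟨j, hj, hjf⟩ := exists_swap hH (x := f''.1) (y := f'.1) h2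
        have hid := (hpair d f.1 f''.1 h1.symm f.2 f''.2 hd1 i hi hif).1
        have hjd := (hpair d f''.1 f'.1 h2 f''.2 f'.2 hd1 j hj hjf).1
        refine ⟨⟨j * i, mem_centralizer_singleton_iff.2 ?_⟩, Subtype.ext ?_⟩
        · have e1 : i * d = d⁻¹ * i := by
            rw [← hid, mul_assoc (i * d), CfsgLib.Invol.mul_self_eq_one hi, mul_one]
          have e2 : j * d⁻¹ = d * j := by
            rw [← hjd, ← mul_assoc, ← mul_assoc, CfsgLib.Invol.mul_self_eq_one hj, one_mul]
          rw [mul_assoc, e1, ← mul_assoc, e2, mul_assoc]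
        · show (j * i) • f.1 = f'.1
          rw [mul_smul, hif, hjf]⟩
      have hud : u * d * u = d⁻¹ := (hfree u hu huM d hdM hdu).2
      haveI : Nonempty Φ := ⟨⟨o, hdo⟩⟩
      have hΦodd : Odd (Nat.card Φ) := by
        refine hodd.of_dvd_nat ?_
        rw [← MulAction.index_stabilizer_of_transitive C (⟨o, hdo⟩ : Φ)]
        exact index_dvd_card _
      have hudm : ∀ v ∈ zpowers u, ∀ f : Φ, d • (v • f.1) = v • f.1 := by
        intro v hv f
        have h1 : d • (u • f.1) = u • f.1 := by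
          rw [← mul_smul, show d * u = u * d⁻¹ by
            rw [← hud, show u * (u * d * u) = (u * u) * d * u by group, CfsgLib.Invol.mul_self_eq_one hu,
              one_mul], mul_smul, inv_smul_eq_iff.2 f.2.symm]
        obtain ⟨k, rfl⟩ := mem_zpowers_iff.1 hv
        obtain ⟨l, rfl | rfl⟩ := Int.even_or_odd' k
        · rw [zpow_mul, zpow_two, CfsgLib.Invol.mul_self_eq_one hu, one_zpow, one_smul, f.2]
        · rw [zpow_add_one, zpow_mul, zpow_two, CfsgLib.Invol.mul_self_eq_one hu, one_zpow, one_mul]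
          exact h1
      letI : MulAction (zpowers u) Φ :=
        { smul := fun v f => ⟨(v : G) • f.1, hudm v v.2 f⟩
          one_smul := fun f => Subtype.ext (one_smul G f.1)
          mul_smul := fun v v' f => Subtype.ext (mul_smul (v : G) (v' : G) f.1) }
      have hup : IsPGroup 2 (zpowers u) := IsPGroup.of_card (n := 1) (by rw [Nat.card_zpowers, hu, pow_one])
      have hmod := hup.card_modEq_card_fixedPoints Φ
      have h0 : Nat.card (MulAction.fixedPoints (zpowers u) Φ) = 0 := by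
        haveI : IsEmpty (MulAction.fixedPoints (zpowers u) Φ) := ⟨fun f =>
          hsemi u hu hud f.1 (congrArg Subtype.val (f.2 ⟨u, mem_zpowers u⟩))⟩
        exact Nat.card_of_isEmpty
      rw [h0] at hmod
      exact Nat.not_even_iff_odd.2 hΦodd (even_iff_two_dvd.2 (Nat.modEq_zero_iff_dvd.1 hmod))
    refine hDX a ?_ haX
    refine mem_inf_conj_iff.2 ⟨hXM haX, smul_mk_iff.1 ?_⟩
    have hfix : d • (a • y) = a • y := by rw [← mul_smul, ← had.eq, mul_smul, hdy]
    refine (htwo _ hfix).resolve_left fun h => hy (smul_left_cancel a ?_)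
    rw [h]; exact (smul_mk_one_iff.2 (hXM haX)).symm
  -- every element outside the component is conjugate to one of the stabiliser
  obtain ⟨d, hdD, hdb⟩ : ∃ d ∈ D, b * d⁻¹ ∈ P.comp g := by
    have hDM : ∀ d : D, (d : G) ∈ M := fun d => (mem_inf.1 d.2).1
    obtain ⟨t, htM, ht2, htz⟩ : ∃ t ∈ M, orderOf t = 2 ∧ t ≠ z :=
      ⟨b * z * b⁻¹, mul_mem (mul_mem hbM hzM) (inv_mem hbM), by rw [CfsgLib.Invol.orderOf_conj_eq, hz2],
        fun e => hfpf b hbM hb z hzX hz2 (mul_inv_eq_iff_eq_mul.1 e).symm⟩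
    obtain ⟨d₀, hd₀, hd₀z⟩ := exists_conj_in_stabilizer hH hu huM hz2 hzM ht2 htM
    have hd₀1 : d₀ ≠ 1 := fun e => htz (by rw [← hd₀z, e]; group)
    set dq : M ⧸ X' := QuotientGroup.mk ⟨d₀, hDM ⟨d₀, hd₀⟩⟩
    have hdq : dq ≠ 1 := fun e => hd₀1 (hDX d₀ hd₀ (mem_subgroupOf.1 ((QuotientGroup.eq_one_iff _).1 e)))
    have hgen : bq ∈ zpowers dq := mem_zpowers_of_prime_card hQr hdq
    obtain ⟨k, hk⟩ := mem_zpowers_iff.1 hgen
    refine ⟨d₀ ^ k, zpow_mem hd₀ k, ?_⟩
    rw [← QuotientGroup.mk_zpow, hbq, QuotientGroup.eq, mem_subgroupOf] at hk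
    have h1 : d₀ ^ k * ((d₀ ^ k)⁻¹ * b) * (d₀ ^ k)⁻¹ ∈ P.comp g :=
      (Subgroup.mem_normalizer_iff.1 (zpow_mem (hDM ⟨d₀, hd₀⟩) k) _).1 (by simpa using hk)
    simpa [mul_assoc] using h1
  have hd1 : d ≠ 1 := fun e => hb (by simpa [e] using hdb)
  let f : P.comp g → P.comp g := fun a => ⟨(a : G) * (d * (a : G)⁻¹ * d⁻¹),
    mul_mem a.2 ((Subgroup.mem_normalizer_iff.1 (mem_inf.1 hdD).1 _).1 (inv_mem a.2))⟩
  have hf : Function.Injective f := fun a c e => by
    have e' : (a : G) * (d * (a : G)⁻¹ * d⁻¹) = c * (d * (c : G)⁻¹ * d⁻¹) := congrArg Subtype.val e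
    refine (Subtype.ext (inv_mul_eq_one.1 (hcX d hdD hd1 _ (mul_mem (inv_mem c.2) a.2) ?_))).symm
    show (c : G)⁻¹ * a * d = d * ((c : G)⁻¹ * a)
    calc (c : G)⁻¹ * a * d = (c : G)⁻¹ * ((a : G) * (d * (a : G)⁻¹ * d⁻¹)) * (d * a) := by group
      _ = (c : G)⁻¹ * (c * (d * (c : G)⁻¹ * d⁻¹)) * (d * a) := by rw [e']
      _ = d * ((c : G)⁻¹ * a) := by group
  obtain ⟨a, ha⟩ := (Finite.injective_iff_surjective.1 hf) ⟨b * d⁻¹, hdb⟩
  have hab : (a : G) * d * (a : G)⁻¹ = b := by
    have h : (a : G) * (d * (a : G)⁻¹ * d⁻¹) = b * d⁻¹ := congrArg Subtype.val ha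
    calc (a : G) * d * (a : G)⁻¹ = (a : G) * (d * (a : G)⁻¹ * d⁻¹) * d := by group
      _ = b * d⁻¹ * d := by rw [h]
      _ = b := by group
  have h1 := hxb.map (MulAut.conj (a : G)⁻¹)
  simp only [MulAut.conj_apply, inv_inv] at h1
  rw [← hab, show (a : G)⁻¹ * ((a : G) * d * (a : G)⁻¹) * a = d by group] at h1
  have h2 := hcX d hdD hd1 _ (mul_mem (mul_mem (inv_mem a.2) hx) a.2) h1
  exact hx1 (conj_eq_one_iff.1 (show (a : G)⁻¹ * x * (a : G)⁻¹⁻¹ = 1 by rw [inv_inv]; exact h2))

/-- The group is a linear fractional group or a Suzuki group. -/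
theorem classify_inside :
    (∃ (F : Type) (_ : Field F) (_ : Fintype F), 4 ≤ Fintype.card F ∧
      Nonempty (G ≃* Matrix.ProjectiveSpecialLinearGroup (Fin 2) F)) ∨ Cfsg.Lie.IsoSuzuki G := by
  haveI : Fact (Nat.Prime 2) := ⟨Nat.prime_two⟩
  have h : CfsgLib.FrobSystem.EvenKernel (fun _ => P.comp g) (normalizer (P.comp g : Set G)) S :=
    { kle := le_normalizer
      kconj := fun a ha x hx => (Subgroup.mem_normalizer_iff.1 ha x).1 hx
      kcent := fun x hx hx1 b hb => P.kcent hnil hs S hg hS hx hx1 (mem_centralizer_singleton_iff.1 hb).symm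
      kti := fun x a hx hx1 ha => by
        simpa using inv_mem (P.mem_normalizer hg hx hx1 (a := a⁻¹) (by rwa [inv_inv]))
      ne_top := P.normalizer_ne_top hnil hs S hg hS
      solv := P.solvable_normalizer hnil hs S hg hS
      sylow_le := hS
      sylow_ne := S.ne_bot_of_dvd_card hs.two_dvd
      proper := (P.normalizer_ne hnil hs S hg hS).symm
      radical := hs }
  haveI := h.isSimpleGroup
  rcases CfsgLib.SameFix.psl2_or_suzuki_of_zass h.zassenhaus with ⟨F, i1, i2, ⟨e⟩⟩ | hSz
  · left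
    haveI : IsSimpleGroup (Matrix.ProjectiveSpecialLinearGroup (Fin 2) F) :=
      CfsgLib.MinimalNormal.isSimpleGroup_iff_of_mulEquiv e
    have hna : ¬ IsMulCommutative (Matrix.ProjectiveSpecialLinearGroup (Fin 2) F) := fun hc =>
      hs.not_solvable (IsSimpleGroup.comm_iff_isSolvable.1 fun a b =>
        e.injective (by rw [map_mul, map_mul]; exact hc.is_comm.comm _ _))
    exact ⟨F, i1, i2, CfsgLib.NormCyclic.three_lt_card hna, ⟨e⟩⟩
  · exact Or.inr hSz

end Part

end CfsgLib.Partition
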