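import Cfsg.Agent.Partition.Basic
import Cfsg.Agent.Frobenius.Fpf
import Cfsg.Agent.Invol.BaerSuzuki
import Cfsg.Agent.OneClass.Basic
import Cfsg.Agent.Solvable.PGroupBasic
import Cfsg.Prelude.Def_SolvableStructure
import Mathlib.GroupTheory.SchurZassenhaus

/-!
# Groups with a nontrivial partition: auxiliary results

A norm computation for a subgroup `W` normalised by an element `u` acting freely on it, the
existence of Frobenius complements, and the existence of such pairs `(W, u)` modulo a `p`-core.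
-/

set_option autoImplicit false
set_option linter.unusedSectionVars false
set_option linter.style.haveILetI false

namespace CfsgLib.Partition

open Subgroup

/-- If `u` has all norms trivial on the abelian group `A` and acts freely on a subgroup `W` without
fixed points on `A`, then `W` has order divisible by the exponent of `A`. -/
theorem pow_card_eq_one_of_norm {H A : Type*} [Group H] [CommGroup A] (φ : H →* MulAut A)
    (W : Subgroup H) [Finite W] {u : H} {r : ℕ} (hr : 0 < r) (huW : u ∈ normalizer (W : Set H))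
    (hfix : ∀ a : A, (∀ w ∈ W, φ w a = a) → a = 1)
    (hfree : ∀ w ∈ W, ∀ i : ℕ, 0 < i → i < r → Commute w (u ^ i) → w = 1)
    (hnorm : ∀ a : A, ∏ i ∈ Finset.range r, φ (u ^ i) a = 1) (a : A) : a ^ Nat.card W = 1 := by
  classical
  haveI := Fintype.ofFinite W
  have hsum : ∀ b : A, ∏ w : W, φ (w : H) b = 1 := fun b => hfix _ fun v hv => by
    rw [map_prod]
    refine (Fintype.prod_equiv (Equiv.mulLeft (⟨v, hv⟩ : W)) _ _ fun w => ?_)
    rw [Equiv.coe_mulLeft, Subgroup.coe_mul, map_mul, MulAut.mul_apply]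
  have hconj : ∀ w : W, ∏ i ∈ Finset.range r, φ ((w : H) * u ^ i * (w : H)⁻¹) a = 1 := fun w => by
    have h := congrArg (φ (w : H)) (hnorm (φ (w : H)⁻¹ a))
    rw [map_prod, map_one] at h
    rw [← h]
    exact Finset.prod_congr rfl fun i _ => by simp [map_mul, MulAut.mul_apply]
  have hcol : ∀ i ∈ Finset.range r, ∏ w : W, φ ((w : H) * u ^ i * (w : H)⁻¹) a =
      if i = 0 then a ^ Nat.card W else 1 := by
    intro i hi
    rcases Nat.eq_zero_or_pos i with rfl | hi0
    · simp [Nat.card_eq_fintype_card]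
    rw [if_neg hi0.ne']
    have hn : u ^ i ∈ normalizer (W : Set H) := pow_mem huW _
    let c : W → W := fun w => ⟨(w : H) * (u ^ i * (w : H)⁻¹ * (u ^ i)⁻¹),
      mul_mem w.2 ((Subgroup.mem_normalizer_iff.1 hn _).1 (inv_mem w.2))⟩
    have hc : Function.Injective c := fun w v e => by
      have e' : (w : H) * (u ^ i * (w : H)⁻¹ * (u ^ i)⁻¹) = v * (u ^ i * (v : H)⁻¹ * (u ^ i)⁻¹) :=
        congrArg Subtype.val e
      have h1 : Commute ((v : H)⁻¹ * w) (u ^ i) := by
        show (v : H)⁻¹ * w * u ^ i = u ^ i * ((v : H)⁻¹ * w)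
        calc (v : H)⁻¹ * w * u ^ i
            = (v : H)⁻¹ * ((w : H) * (u ^ i * (w : H)⁻¹ * (u ^ i)⁻¹)) * (u ^ i * w) := by group
          _ = (v : H)⁻¹ * ((v : H) * (u ^ i * (v : H)⁻¹ * (u ^ i)⁻¹)) * (u ^ i * w) := by rw [e']
          _ = u ^ i * ((v : H)⁻¹ * w) := by group
      exact (Subtype.ext (inv_mul_eq_one.1 (hfree _ (mul_mem (inv_mem v.2) w.2) i hi0
        (Finset.mem_range.1 hi) h1))).symm
    rw [← hsum (φ (u ^ i) a)]
    refine Fintype.prod_bijective c (Finite.injective_iff_bijective.1 hc) _ _ fun w => ?_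
    rw [← MulAut.mul_apply, ← map_mul]
    refine congrArg (fun t => φ t a) ?_
    show _ = (w : H) * (u ^ i * (w : H)⁻¹ * (u ^ i)⁻¹) * u ^ i
    group
  have h : ∏ i ∈ Finset.range r, ∏ w : W, φ ((w : H) * u ^ i * (w : H)⁻¹) a = 1 := by
    rw [Finset.prod_comm]
    exact Finset.prod_eq_one fun w _ => hconj w
  rw [Finset.prod_congr rfl hcol, Finset.prod_ite_eq'] at h
  simpa [hr] using h

variable {G : Type*} [Group G]

/-- A proper normal subgroup containing the centralisers of its nontrivial elements has a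
Frobenius complement. -/
theorem exists_frobenius_complement [Finite G] (P : Subgroup G) [P.Normal] (h1 : P ≠ ⊥) (h2 : P ≠ ⊤)
    (h : ∀ y ∈ P, y ≠ 1 → ∀ g : G, Commute y g → g ∈ P) :
    ∃ H : Subgroup G, Cfsg.IsFrobeniusComplement H := by
  have hco : (Nat.card P).Coprime P.index := by
    refine Nat.coprime_of_dvd fun p hp hdP hdi => ?_
    haveI := Fact.mk hp
    obtain ⟨y, hy⟩ := exists_prime_orderOf_dvd_card' (G := P) p hdP
    rw [← Subgroup.orderOf_coe] at hy
    obtain ⟨Q, hQ⟩ := (show IsPGroup p (zpowers (y : G)) from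
      IsPGroup.of_card (n := 1) (by rw [Nat.card_zpowers, hy, pow_one])).exists_le_sylow
    haveI : Group.IsNilpotent (Q : Subgroup G) := Q.2.isNilpotent
    have hne : P.subgroupOf (Q : Subgroup G) ≠ ⊥ := fun e => by
      have h' : (⟨y, hQ (mem_zpowers _)⟩ : (Q : Subgroup G)) ∈ P.subgroupOf (Q : Subgroup G) :=
        mem_subgroupOf.2 y.2
      rw [e, mem_bot] at h'
      exact hp.ne_one (by rw [← hy, show (y : G) = 1 from congrArg Subtype.val h', orderOf_one])
    obtain ⟨z, hz, hz1⟩ := ((bot_or_exists_ne_one _).resolve_left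
      (CfsgLib.PGroupBasic.inf_center_ne_bot _ hne))
    have hQP : (Q : Subgroup G) ≤ P := fun g hg =>
      h z (mem_subgroupOf.1 hz.1) (fun e => hz1 (Subtype.ext e)) g
        (congrArg Subtype.val (mem_center_iff.1 hz.2 ⟨g, hg⟩)).symm
    exact Q.not_dvd_index (hdi.trans (index_dvd_of_le hQP))
  obtain ⟨H, hH⟩ := exists_right_complement'_of_coprime hco
  have hdisj : P ⊓ H = ⊥ := hH.disjoint.eq_bot
  refine ⟨H, fun e => ?_, fun e => ?_, fun g hg => ?_⟩
  · exact h2 (isComplement'_bot_right.1 (e ▸ hH))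
  · exact h1 (isComplement'_top_right.1 (e ▸ hH))
  · refine (eq_bot_iff_forall _).2 fun a ha => ?_
    obtain ⟨haH, haG⟩ := mem_inf.1 ha
    rw [mem_pointwise_smul_iff_inv_smul_mem, MulAut.smul_def, MulAut.conj_inv_apply] at haG
    obtain ⟨⟨x, k⟩, hxk⟩ := hH.2 g
    dsimp only at hxk
    subst hxk
    set b := ((x : G) * k)⁻¹ * a * ((x : G) * k) with hb
    have hkb : (k : G) * b * (k : G)⁻¹ ∈ H := mul_mem (mul_mem k.2 haG) (inv_mem k.2)
    have hb' : (k : G) * b * (k : G)⁻¹ = (x : G)⁻¹ * a * x := by rw [hb]; group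
    rw [hb'] at hkb
    have hc : ((x : G)⁻¹ * a * x) * a⁻¹ = 1 := by
      rw [← mem_bot, ← hdisj]
      refine mem_inf.2 ⟨?_, mul_mem hkb (inv_mem haH)⟩
      rw [mul_assoc, mul_assoc]
      exact mul_mem (inv_mem x.2) (by simpa [mul_assoc] using Normal.conj_mem inferInstance _ x.2 a)
    by_contra ha1
    have hx1 : (x : G) ≠ 1 := fun e => hg (by rw [e, one_mul]; exact k.2)
    have hcomm : Commute (x : G) a := by
      show (x : G) * a = a * x
      have h' : (x : G)⁻¹ * a * x = a := mul_inv_eq_one.1 hc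
      calc (x : G) * a = x * ((x : G)⁻¹ * a * x) := by rw [h']
        _ = a * x := by group
    have := mem_inf.2 ⟨h x x.2 hx1 a hcomm, haH⟩
    rw [hdisj, mem_bot] at this
    exact ha1 this

/-- A group acting by an element of order `p` on a `q`-group above `O_p`. -/
theorem exists_pair_of_lift {H : Type*} [Group H] [Finite H] {p q : ℕ} [Fact p.Prime] [Fact q.Prime]
    (hpq : p ≠ q) (R : Subgroup H) [R.Normal] (hR : IsPGroup p R) (Wb : Subgroup (H ⧸ R))
    (hW : IsPGroup q Wb) (hW1 : Wb ≠ ⊥) {t : H ⧸ R} (ht : orderOf t = p)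
    (htW : t ∈ normalizer (Wb : Set (H ⧸ R))) :
    ∃ (W : Subgroup H) (v : H), IsPGroup q W ∧ W ≠ ⊥ ∧ orderOf v = p ∧
      v ∈ normalizer (W : Set H) := by
  classical
  let π := QuotientGroup.mk' R
  have hπ : Function.Surjective π := QuotientGroup.mk'_surjective R
  set M := Wb.comap π
  set U := (zpowers t ⊔ Wb).comap π
  have hMU : M ≤ U := comap_mono le_sup_right
  have hUN : U ≤ normalizer (M : Set H) := by
    intro a ha
    have h' : π a ∈ normalizer (Wb : Set (H ⧸ R)) :=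
      (sup_le (zpowers_le.2 htW) le_normalizer : zpowers t ⊔ Wb ≤ _) (mem_comap.1 ha)
    refine Subgroup.mem_normalizer_iff.2 fun x => ?_
    rw [mem_comap, mem_comap, map_mul, map_mul, map_inv]
    exact Subgroup.mem_normalizer_iff.1 h' (π x)
  obtain ⟨t₀, ht₀⟩ := hπ t
  set N := M.subgroupOf U
  haveI hN : N.Normal := ⟨fun x hx g => (Subgroup.mem_normalizer_iff.1 (hUN g.2) _).1 hx⟩
  obtain ⟨Q⟩ := (inferInstance : Nonempty (Sylow q N))
  have hfr := Sylow.normalizer_sup_eq_top Q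
  set Q' := (Q : Subgroup N).map N.subtype
  -- the Sylow subgroup is nontrivial
  obtain ⟨wb, hwb, hwb1⟩ := (bot_or_exists_ne_one _).resolve_left hW1
  obtain ⟨m, hm⟩ := hπ wb
  have hqN : q ∣ Nat.card N := by
    rw [Nat.card_congr (subgroupOfEquivOfLe hMU).toEquiv]
    have h1 : q ∣ orderOf wb := by
      obtain ⟨k, hk⟩ := (IsPGroup.iff_orderOf.1 hW) ⟨wb, hwb⟩
      rw [← Subgroup.orderOf_coe] at hk
      rcases k with _ | k
      · exact absurd (orderOf_eq_one_iff.1 (by simpa using hk)) hwb1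
      · rw [hk, pow_succ]; exact dvd_mul_left _ _
    refine h1.trans ((hm ▸ orderOf_map_dvd π m).trans ?_)
    exact Subgroup.orderOf_dvd_natCard M (show m ∈ M from mem_comap.2 (hm ▸ hwb))
  have hQ1 : Q' ≠ ⊥ := fun e => Q.ne_bot_of_dvd_card hqN
    ((map_eq_bot_iff_of_injective _ N.subtype_injective).1 e)
  -- an element of the normaliser mapping to `t` modulo `Wb`
  have htU : t₀ ∈ U := mem_comap.2 (by rw [ht₀]; exact mem_sup_left (mem_zpowers t))
  have hmem : (⟨t₀, htU⟩ : U) ∈ normalizer (Q' : Set U) ⊔ N := hfr ▸ mem_top _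
  obtain ⟨a, ha, n, hn, han⟩ := mem_sup_of_normal_right.1 hmem
  have han' : π a * π n = t := by
    rw [← map_mul, ← ht₀]
    exact congrArg π (congrArg Subtype.val han)
  have hpa : p ∣ orderOf (a : H) := by
    have hco : p.Coprime (Nat.card Wb) := by
      obtain ⟨k, hk⟩ := IsPGroup.iff_card.1 hW
      rw [hk]
      exact ((Nat.coprime_primes Fact.out Fact.out).2 hpq).pow_right k
    by_contra hnd
    have hco2 : (orderOf (a : H)).Coprime p := ((Fact.out : p.Prime).coprime_iff_not_dvd.2 hnd).symm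
    set j := orderOf (a : H) with hj
    have haj : π a ^ j = 1 := by rw [← map_pow, pow_orderOf_eq_one, map_one]
    have hnW : π n ∈ Wb := mem_comap.1 (mem_subgroupOf.1 hn)
    have htn : π a * π n = t := han'
    -- `t ^ j` lies in `Wb`
    have hpow : ∀ i : ℕ, (π a ^ i)⁻¹ * t ^ i ∈ Wb := by
      intro i
      induction i with
      | zero => simp
      | succ i ih =>
        rw [pow_succ, pow_succ, mul_inv_rev, ← htn, show (π a)⁻¹ * (π a ^ i)⁻¹ * ((π a * π n) ^ i *
          (π a * π n)) = (π a)⁻¹ * ((π a ^ i)⁻¹ * (π a * π n) ^ i) * π a * π n by group]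
        refine mul_mem ?_ hnW
        have haN : π a ∈ normalizer (Wb : Set (H ⧸ R)) :=
          (sup_le (zpowers_le.2 htW) le_normalizer : zpowers t ⊔ Wb ≤ _) (mem_comap.1 a.2)
        exact (Subgroup.mem_normalizer_iff''.1 haN _).1 (htn ▸ ih)
    have h1 := hpow j
    rw [haj, inv_one, one_mul] at h1
    have h2 : orderOf (t ^ j) = p := by
      rw [Nat.Coprime.orderOf_pow (by rw [ht]; exact hco2.symm), ht]
    have h3 : p ∣ Nat.card Wb := h2 ▸ Subgroup.orderOf_dvd_natCard Wb h1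
    exact (Fact.out : p.Prime).ne_one (Nat.eq_one_of_dvd_coprimes hco dvd_rfl h3)
  refine ⟨Q'.map U.subtype, (a : H) ^ (orderOf (a : H) / p),
    (Q.2.map N.subtype).map U.subtype, fun e => hQ1 ((map_eq_bot_iff_of_injective _ U.subtype_injective).1 e),
    orderOf_pow_orderOf_div (orderOf_pos _).ne' hpa, pow_mem ?_ _⟩
  exact le_normalizer_map U.subtype (mem_map_of_mem U.subtype ha)

/-- In a solvable group the `p`-core either contains a Sylow subgroup or is complemented by an
element of order `p` acting on a nontrivial `q`-subgroup. -/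
theorem exists_pair_solvable {H : Type*} [Group H] [Finite H] [Group.IsSolvable H] {p : ℕ}
    [Fact p.Prime] (hp : p ∣ (Cfsg.pCore p H).index) :
    ∃ (q : ℕ) (W : Subgroup H) (v : H), q.Prime ∧ p ≠ q ∧ IsPGroup q W ∧ W ≠ ⊥ ∧ orderOf v = p ∧
      v ∈ normalizer (W : Set H) := by
  haveI := (CfsgLib.Solvable.pCore_spec (G := H) p).1
  obtain ⟨t, ht⟩ := exists_prime_orderOf_dvd_card' (G := H ⧸ Cfsg.pCore p H) p hp
  have hne : (⊤ : Subgroup (H ⧸ Cfsg.pCore p H)) ≠ ⊥ := fun e => by
    have h' : t ∈ (⊥ : Subgroup (H ⧸ Cfsg.pCore p H)) := e ▸ mem_top t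
    rw [mem_bot.1 h', orderOf_one] at ht
    exact (Fact.out : p.Prime).ne_one ht.symm
  obtain ⟨M, hM, hM1, -, -, -, q, hq, -, hMq⟩ :=
    CfsgLib.Solvable.exists_normal_elementary_le hne inferInstance
  haveI := Fact.mk hq
  have hpq : p ≠ q := by
    rintro rfl
    exact hM1 (eq_bot_iff.2 ((CfsgLib.Solvable.le_pCore p hM hMq).trans
      (CfsgLib.OneClass.pCore_quotient_pCore p).le))
  obtain ⟨W, v, h1, h2, h3, h4⟩ := exists_pair_of_lift hpq _ (CfsgLib.Solvable.isPGroup_pCore p) M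
    hMq hM1 ht (haveI := hM; by rw [normalizer_eq_top]; exact mem_top _)
  exact ⟨q, W, v, hq, hpq, h1, h2, h3, h4⟩

/-- An involution outside the 2-core acts on a nontrivial subgroup of odd prime power order. -/
theorem exists_pair_two {H : Type*} [Group H] [Finite H] (hp : 2 ∣ (Cfsg.pCore 2 H).index) :
    ∃ (q : ℕ) (W : Subgroup H) (v : H), q.Prime ∧ 2 ≠ q ∧ IsPGroup q W ∧ W ≠ ⊥ ∧ orderOf v = 2 ∧
      v ∈ normalizer (W : Set H) := by
  haveI : Fact (Nat.Prime 2) := ⟨Nat.prime_two⟩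
  haveI := (CfsgLib.Solvable.pCore_spec (G := H) 2).1
  obtain ⟨t, ht⟩ := exists_prime_orderOf_dvd_card' (G := H ⧸ Cfsg.pCore 2 H) 2 hp
  obtain ⟨h, hh1, hodd, hth⟩ := CfsgLib.Invol.exists_inverted_odd t ht (by
    rw [CfsgLib.OneClass.pCore_quotient_pCore 2, mem_bot]
    exact CfsgLib.Invol.ne_one ht)
  obtain ⟨q, hq, hdvd⟩ := Nat.exists_prime_and_dvd (mt orderOf_eq_one_iff.1 hh1)
  haveI := Fact.mk hq
  have hq2 : 2 ≠ q := by
    rintro rfl
    exact Nat.not_even_iff_odd.2 hodd (even_iff_two_dvd.2 hdvd)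
  set w := h ^ (orderOf h / q)
  have hw : orderOf w = q := orderOf_pow_orderOf_div (orderOf_pos h).ne' hdvd
  have htw : t * w * t⁻¹ = w⁻¹ := by rw [← conj_pow, hth, inv_pow]
  have hmem : ∀ x ∈ zpowers w, t * x * t⁻¹ ∈ zpowers w := by
    intro x hx
    obtain ⟨k, rfl⟩ := mem_zpowers_iff.1 hx
    rw [CfsgLib.Invol.conj_zpow_of_inverts htw]
    first | exact inv_mem (zpow_mem (mem_zpowers w) _) | exact zpow_mem (inv_mem (mem_zpowers w)) _ | exact zpow_mem (mem_zpowers w) _
  obtain ⟨W, v, h1, h2, h3, h4⟩ := exists_pair_of_lift hq2 _ (CfsgLib.Solvable.isPGroup_pCore 2)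
    (zpowers w) (IsPGroup.of_card (n := 1) (by rw [Nat.card_zpowers, hw, pow_one]))
    (by rw [zpowers_ne_bot]; intro e; rw [e, orderOf_one] at hw; exact hq.ne_one hw.symm) ht
    (Subgroup.mem_normalizer_iff.2 fun x => ⟨hmem x, fun hx => by
      have := hmem _ hx
      rwa [show t * (t * x * t⁻¹) * t⁻¹ = (t * t) * x * (t * t)⁻¹ by group,
        CfsgLib.Invol.mul_self_eq_one ht, one_mul, inv_one, mul_one] at this⟩)
  exact ⟨q, W, v, hq, hq2, h1, h2, h3, h4⟩

end CfsgLib.Partition
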